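import Cfsg.Agent.Lib.Coprime.Sylow
import Cfsg.Agent.Lib.Solvable.Basic
import Mathlib

/-!
# Numbers of Sylow subgroups along a normal subgroup
-/

set_option autoImplicit false

namespace CfsgLib.NT.SylowCount

open Subgroup

variable {G : Type*} [Group G]

/-- If `L` is transitive on `M ⧸ H` then the relative indices agree. -/
theorem relIndex_eq_of_cover {H L M : Subgroup G} (hLM : L ≤ M)
    (hf : ∀ g ∈ M, ∃ k ∈ L, k⁻¹ * g ∈ H) : H.relIndex M = H.relIndex L := by
  refine (Nat.card_eq_of_bijective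
    (Quotient.map' (fun k : L => (⟨k, hLM k.2⟩ : M)) ?_ : L ⧸ H.subgroupOf L → M ⧸ H.subgroupOf M)
    ⟨?_, ?_⟩).symm
  · intro a b h
    rw [QuotientGroup.leftRel_apply, mem_subgroupOf] at h ⊢
    exact h
  · intro a b
    induction a using Quotient.inductionOn' with | _ a =>
    induction b using Quotient.inductionOn' with | _ b =>
    intro h
    rw [Quotient.map'_mk'', Quotient.map'_mk'', Quotient.eq'', QuotientGroup.leftRel_apply] at h
    rw [Quotient.eq'', QuotientGroup.leftRel_apply]
    exact h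
  · intro c
    induction c using Quotient.inductionOn' with | _ g =>
    obtain ⟨k, hk, hkg⟩ := hf g g.2
    refine ⟨Quotient.mk'' ⟨k, hk⟩, ?_⟩
    rw [Quotient.map'_mk'', Quotient.eq'', QuotientGroup.leftRel_apply]
    exact hkg

variable [Finite G] {p : ℕ} [Fact p.Prime]

/-- The number of Sylow subgroups of a subgroup. -/
theorem card_sylow_subgroup {H Q : Subgroup G} (S : Sylow p H)
    (hS : (S : Subgroup H).map H.subtype = Q) :
    Nat.card (Sylow p H) = (normalizer (Q : Set G)).relIndex H := by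
  have hle : Q ≤ H := hS ▸ map_subtype_le _
  rw [S.card_eq_index_normalizer, ← Sylow.coe_coe, relIndex, ← comap_subtype,
    comap_normalizer_eq_of_le_range (hle.trans_eq H.range_subtype.symm), ← hS,
    comap_map_eq_self_of_injective H.subtype_injective]

theorem card_sylow_of_le (P : Sylow p G) {H : Subgroup G} (h : (P : Subgroup G) ≤ H) :
    Nat.card (Sylow p H) = (normalizer ((P : Subgroup G) : Set G)).relIndex H :=
  card_sylow_subgroup (P.subtype h) (by
    rw [Sylow.coe_subtype, Subgroup.map_subgroupOf_eq_of_le h])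

theorem card_sylow_quotient (P : Sylow p G) (K : Subgroup G) [K.Normal] :
    Nat.card (Sylow p (G ⧸ K)) = (normalizer (((P : Subgroup G) ⊔ K : Subgroup G) : Set G)).index := by
  have hf := QuotientGroup.mk'_surjective K
  rw [(P.mapSurjective hf).card_eq_index_normalizer, ← Sylow.coe_coe, Sylow.coe_mapSurjective,
    ← index_comap_of_surjective _ hf,
    comap_normalizer_eq_of_le_range (by rw [MonoidHom.range_eq_top.2 hf]; exact le_top),
    comap_map_eq, QuotientGroup.ker_mk']

/-- Frattini's argument inside the normalizer of an overgroup of a Sylow subgroup. -/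
theorem sylow_cover (P : Sylow p G) {L M : Subgroup G} (hPL : (P : Subgroup G) ≤ L)
    (hM : M ≤ normalizer (L : Set G)) :
    ∀ g ∈ M, ∃ k ∈ L, k⁻¹ * g ∈ normalizer ((P : Subgroup G) : Set G) := by
  intro g hg
  have hgP : ((g • P : Sylow p G) : Subgroup G) ≤ L := by
    rw [Sylow.coe_subgroup_smul]
    rintro _ ⟨x, hx, rfl⟩
    exact (mem_normalizer_iff.1 (hM hg) x).1 (hPL hx)
  obtain ⟨k, hk⟩ := MulAction.exists_smul_eq L (P.subtype hPL) ((g • P).subtype hgP)
  rw [Sylow.smul_subtype hPL] at hk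
  have hk' : (k : G) • P = g • P := Sylow.subtype_injective hk
  refine ⟨k, k.2, ?_⟩
  rw [Sylow.coe_coe, ← Sylow.smul_eq_iff_mem_normalizer, mul_smul, ← hk', inv_smul_smul]

theorem card_sylow_eq_quotient_mul_sup (P : Sylow p G) (K : Subgroup G) [K.Normal] :
    Nat.card (Sylow p G) =
      Nat.card (Sylow p (G ⧸ K)) * Nat.card (Sylow p ↥((P : Subgroup G) ⊔ K)) := by
  set L := (P : Subgroup G) ⊔ K
  set M := normalizer (L : Set G)
  have hPL : (P : Subgroup G) ≤ L := le_sup_left
  have hNM : normalizer ((P : Subgroup G) : Set G) ≤ M := by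
    intro g hg
    rw [mem_normalizer_iff]
    intro x
    have hmap : L.map (MulAut.conj g).toMonoidHom = L := by
      have hKmap : K.map (MulAut.conj g).toMonoidHom = K :=
        le_antisymm (by rintro _ ⟨x, hx, rfl⟩; exact ‹K.Normal›.conj_mem x hx g) fun x hx =>
          ⟨g⁻¹ * x * g, by simpa using ‹K.Normal›.conj_mem x hx g⁻¹, by simp [mul_assoc]⟩
      have hPmap : (P : Subgroup G).map (MulAut.conj g).toMonoidHom = P := by
        conv_rhs => rw [← Sylow.smul_eq_iff_mem_normalizer.2 (show g ∈ normalizer (P : Set G) from hg), Sylow.coe_subgroup_smul]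
        rfl
      rw [Subgroup.map_sup, hKmap, hPmap]
    constructor
    · intro hx
      rw [← hmap]
      exact ⟨x, hx, rfl⟩
    · intro hx
      rw [← hmap] at hx
      obtain ⟨y, hy, e⟩ := hx
      rw [← (MulAut.conj g).injective (show MulAut.conj g y = MulAut.conj g x from e)]
      exact hy
  rw [P.card_eq_index_normalizer, ← Sylow.coe_coe, ← relIndex_mul_index hNM, card_sylow_quotient P K,
    card_sylow_of_le P hPL, mul_comm]
  congr 1
  exact relIndex_eq_of_cover le_normalizer (sylow_cover P hPL le_rfl)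

/-- The Sylow subgroup `P ⊓ K` of a normal subgroup. -/
theorem exists_sylow_inf (P : Sylow p G) (K : Subgroup G) [K.Normal] :
    ∃ S : Sylow p K, (S : Subgroup K).map K.subtype = (P : Subgroup G) ⊓ K :=
  CfsgLib.Coprime.exists_sylow_map_eq inf_le_right
    (CfsgLib.Coprime.card_sylow_inf_normal P K)

theorem card_sylow_three (P : Sylow p G) (K : Subgroup G) [K.Normal] (N : Subgroup G)
    (hN : N = ((P : Subgroup G) ⊔ K) ⊓
      normalizer (((P : Subgroup G) ⊓ K : Subgroup G) : Set G))
    [hn : (((P : Subgroup G) ⊓ K).subgroupOf N).Normal] :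
    Nat.card (Sylow p G) = Nat.card (Sylow p (G ⧸ K)) * Nat.card (Sylow p K) *
      Nat.card (Sylow p (N ⧸ ((P : Subgroup G) ⊓ K).subgroupOf N)) := by
  set L := (P : Subgroup G) ⊔ K with hL
  set Q := (P : Subgroup G) ⊓ K with hQ
  have hPQ : (P : Subgroup G) ≤ normalizer (Q : Set G) := by
    intro g hg
    rw [mem_normalizer_iff]
    intro x
    have hK := (‹K.Normal› : K.Normal)
    constructor
    · intro h
      obtain ⟨hx, hxK⟩ := mem_inf.1 h
      exact mem_inf.2 ⟨mul_mem (mul_mem hg hx) (inv_mem hg), hK.conj_mem x hxK g⟩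
    · intro h
      obtain ⟨hx, hxK⟩ := mem_inf.1 h
      refine mem_inf.2 ⟨?_, ?_⟩
      · simpa [mul_assoc] using mul_mem (mul_mem (inv_mem hg) hx) hg
      · simpa [mul_assoc] using hK.conj_mem _ hxK g⁻¹
  have hPN : (P : Subgroup G) ≤ N := hN ▸ le_inf le_sup_left hPQ
  have hNL : N ≤ L := hN ▸ inf_le_left
  rw [card_sylow_eq_quotient_mul_sup P K, mul_assoc]
  congr 1
  obtain ⟨S, hS⟩ := exists_sylow_inf P K
  have hN' : (N : Subgroup G).subgroupOf L = (normalizer (Q : Set G)).subgroupOf L := by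
    rw [hN, inf_comm, inf_subgroupOf_right]
  have h3 : Nat.card (Sylow p (N ⧸ Q.subgroupOf N)) =
      (normalizer ((P : Subgroup G) : Set G)).relIndex N := by
    rw [card_sylow_quotient (P.subtype hPN) (Q.subgroupOf N), ← card_sylow_of_le P hPN,
      (P.subtype hPN).card_eq_index_normalizer, ← Sylow.coe_coe]
    congr 3
    rw [sup_eq_left, Sylow.coe_subtype]
    exact comap_mono inf_le_left
  have hinf : normalizer ((P : Subgroup G) : Set G) ⊓ L ≤ N := by
    rw [hN]
    intro g hg'
    obtain ⟨hg, hgL⟩ := mem_inf.1 hg'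
    refine mem_inf.2 ⟨hgL, ?_⟩
    rw [mem_normalizer_iff] at hg ⊢
    intro x
    have hK := (‹K.Normal› : K.Normal)
    constructor
    · intro h
      obtain ⟨hx, hxK⟩ := mem_inf.1 h
      exact mem_inf.2 ⟨(hg x).1 hx, hK.conj_mem x hxK g⟩
    · intro h
      obtain ⟨hx, hxK⟩ := mem_inf.1 h
      exact mem_inf.2 ⟨(hg x).2 hx, by simpa [mul_assoc] using hK.conj_mem _ hxK g⁻¹⟩
  have h1 : (normalizer ((P : Subgroup G) : Set G)).relIndex L =
      (normalizer ((P : Subgroup G) : Set G)).relIndex N * N.relIndex L := by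
    rw [← inf_relIndex_right (normalizer ((P : Subgroup G) : Set G)) L,
      ← relIndex_mul_relIndex _ _ _ hinf hNL]
    congr 1
    rw [← inf_relIndex_right (normalizer ((P : Subgroup G) : Set G)) N,
      ← inf_relIndex_right (_ ⊓ L) N, inf_assoc, inf_eq_right.2 hNL]
  have h2 : N.relIndex L = Nat.card (Sylow p K) := by
    rw [card_sylow_subgroup S hS, relIndex, hN']
    refine relIndex_eq_of_cover (le_sup_right : K ≤ L) fun g hg => ?_
    obtain ⟨a, ha, k, hk, rfl⟩ := mem_sup_of_normal_right.1 hg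
    refine ⟨a * k * a⁻¹, ‹K.Normal›.conj_mem k hk a, ?_⟩
    rw [show (a * k * a⁻¹)⁻¹ * (a * k) = a by group]
    exact hPQ ha
  rw [card_sylow_of_le P (le_sup_left : (P : Subgroup G) ≤ L), h1, h3, h2, mul_comm]

/-- Coprime case: every primary part of the number of Sylow subgroups is `1` modulo `p`. -/
theorem ordProj_modEq_of_coprime (P : Sylow p G) (K : Subgroup G) [K.Normal]
    (hK : ¬ p ∣ Nat.card K) (htop : (P : Subgroup G) ⊔ K = ⊤) {r : ℕ} (hr : r.Prime) :
    r ^ (Nat.card (Sylow p G)).factorization r ≡ 1 [MOD p] := by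
  have := Fact.mk hr
  have hp : p.Prime := Fact.out
  set A := (P : Subgroup G) with hA
  set C := K ⊓ centralizer (A : Set G) with hC
  have hcop : (Nat.card A).Coprime (Nat.card K) := by
    obtain ⟨k, hk⟩ := P.isPGroup'.exists_card_eq
    rw [hk]
    exact Nat.Coprime.pow_left k ((hp.coprime_iff_not_dvd).2 hK)
  have hdis : A ⊓ K = ⊥ := inf_eq_bot_of_coprime hcop
  have hnorm : normalizer (A : Set G) ⊓ K ≤ C := by
    intro g hg'
    obtain ⟨hg, hgK⟩ := mem_inf.1 hg'
    refine mem_inf.2 ⟨hgK, mem_centralizer_iff.2 fun a ha => ?_⟩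
    have h1 : g * a * g⁻¹ * a⁻¹ ∈ A ⊓ K := by
      refine mem_inf.2 ⟨mul_mem ((mem_normalizer_iff.1 hg a).1 ha) (inv_mem ha), ?_⟩
      rw [mul_assoc, mul_assoc]
      exact mul_mem hgK (by simpa [mul_assoc] using
        (‹K.Normal›).conj_mem _ (inv_mem hgK) a)
    rw [hdis, mem_bot, mul_inv_eq_one, mul_inv_eq_iff_eq_mul] at h1
    exact h1.symm
  have hn : Nat.card (Sylow p G) = C.relIndex K := by
    rw [P.card_eq_index_normalizer, ← Sylow.coe_coe, ← hA, ← relIndex_top_right,
      relIndex_eq_of_cover (le_top : K ≤ ⊤) (fun g _ => ?_), ← inf_relIndex_right,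
      le_antisymm hnorm (le_inf (inf_le_right.trans (centralizer_le_normalizer (A : Set G)))
        inf_le_left)]
    have hg : g ∈ A ⊔ K := htop ▸ mem_top g
    obtain ⟨a, ha, k, hk, rfl⟩ := mem_sup_of_normal_right.1 hg
    refine ⟨a * k * a⁻¹, ‹K.Normal›.conj_mem k hk a, ?_⟩
    rw [show (a * k * a⁻¹)⁻¹ * (a * k) = a by group]
    exact le_normalizer ha
  obtain ⟨U₀⟩ := (inferInstance : Nonempty (Sylow r C))
  set U := (U₀ : Subgroup C).map C.subtype with hU
  have hUC : U ≤ C := map_subtype_le _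
  have hUK : U ≤ K := hUC.trans inf_le_left
  have hUr : IsPGroup r U := U₀.isPGroup'.map _
  have hUA : A ≤ normalizer (U : Set G) := by
    intro a ha
    rw [mem_normalizer_iff]
    have hfix : ∀ x ∈ U, a * x * a⁻¹ = x := fun x hx => by
      rw [mem_centralizer_iff.1 (hUC hx).2 a ha, mul_inv_cancel_right]
    intro x
    refine ⟨fun hx => by rw [hfix x hx]; exact hx, fun hx => ?_⟩
    have h := hfix _ hx
    have : a * x * a⁻¹ = x := mul_left_cancel (a := a) (mul_right_cancel (b := a⁻¹) h)
    rwa [this] at hx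
  obtain ⟨R, hUR, hRA⟩ := CfsgLib.Coprime.exists_le_invariant_sylow
    (le_normalizer_of_normal : A ≤ normalizer (K : Set G)) hcop
    (Or.inl (by have := P.isPGroup'.isNilpotent; infer_instance)) hUK hUr hUA
  set R' := (R : Subgroup K).map K.subtype with hR'
  have hcardR : Nat.card R' = r ^ (Nat.card K).factorization r := by
    rw [hR', CfsgLib.Coprime.card_map_subtype, R.card_eq_multiplicity]
  have hcardU : Nat.card U = r ^ (Nat.card C).factorization r := by
    rw [hU, CfsgLib.Coprime.card_map_subtype, U₀.card_eq_multiplicity]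
  have hRC : R' ⊓ centralizer (A : Set G) = U := by
    refine (eq_of_le_of_card_ge (le_inf hUR (hUC.trans inf_le_right)) ?_).symm
    obtain ⟨k, hk⟩ := ((R.isPGroup'.map K.subtype).to_le
      (inf_le_left : R' ⊓ centralizer (A : Set G) ≤ R')).exists_card_eq
    have hle : R' ⊓ centralizer (A : Set G) ≤ C := inf_le_inf_right _ (map_subtype_le _)
    have hd := card_dvd_of_le hle
    rw [hk] at hd
    rw [hk, hcardU]
    exact Nat.pow_le_pow_right hr.pos
      ((hr.pow_dvd_iff_le_factorization Nat.card_pos.ne').1 hd)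
  let _ : MulAction A R' := MulAction.compHom R'
    ((Subgroup.normalizerMonoidHom R').comp (inclusion hRA))
  have hmod : Nat.card R' ≡ Nat.card U [MOD p] := by
    rw [← hRC]
    refine (P.isPGroup'.card_modEq_card_fixedPoints R').trans ?_
    have hfix : ∀ x : MulAction.fixedPoints A R', (x.1 : G) ∈ centralizer (A : Set G) := fun x =>
      mem_centralizer_iff.2 fun a ha =>
        mul_inv_eq_iff_eq_mul.1 (congrArg Subtype.val (x.2 ⟨a, ha⟩))
    have hfix' : ∀ y : ↥(R' ⊓ centralizer (A : Set G)),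
        (⟨y, (mem_inf.1 y.2).1⟩ : R') ∈ MulAction.fixedPoints A R' := fun y a => by
      refine Subtype.ext ?_
      show (a : G) * (y : G) * (a : G)⁻¹ = y
      rw [mem_centralizer_iff.1 (mem_inf.1 y.2).2 a a.2, mul_inv_cancel_right]
    rw [Nat.card_congr (⟨fun x => ⟨(x.1 : G), mem_inf.2 ⟨x.1.2, hfix x⟩⟩, fun y => ⟨_, hfix' y⟩,
      fun x => rfl, fun y => rfl⟩ : MulAction.fixedPoints A R' ≃ ↥(R' ⊓ centralizer (A : Set G)))]
  have hfac : (Nat.card C).factorization r + (Nat.card (Sylow p G)).factorization r =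
      (Nat.card K).factorization r := by
    have hmul : Nat.card C * C.relIndex K = Nat.card K := by
      rw [← Nat.card_congr (subgroupOfEquivOfLe (inf_le_left : C ≤ K)).toEquiv]
      exact card_mul_index _
    rw [hn, ← hmul, Nat.factorization_mul Nat.card_pos.ne' (by
      intro h
      rw [h, mul_zero] at hmul
      exact Nat.card_pos.ne' hmul.symm), Finsupp.add_apply]
  rw [hcardR, hcardU, ← hfac, pow_add] at hmod
  rcases eq_or_ne r p with rfl | hne
  · rw [Nat.eq_zero_of_le_zero (show (Nat.card (Sylow r G)).factorization r ≤ 0 by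
      rw [Nat.factorization_eq_zero_of_not_dvd (not_dvd_card_sylow r G)]), pow_zero]
  · refine Nat.ModEq.cancel_left_of_coprime ?_ (hmod.trans (by rw [mul_one]))
    exact Nat.Coprime.pow_right _ ((Nat.coprime_primes hp hr).2 hne.symm)

end CfsgLib.NT.SylowCount
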