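import Cfsg.Agent.Lib.NumberTheory.SchurBound
import Cfsg.Agent.Lib.CharDeep.Galois.CharAut
import Cfsg.Agent.Lib.CharDeep.Galois.ComplexAut
import Cfsg.Agent.Lib.Char.CyclicTIGalois
import Cfsg.Agent.Lib.Char.Clifford
import Cfsg.Agent.Lib.Char.Quotient
import Cfsg.Agent.Lib.Char.Linear

/-!
# Schur's bound for a `p`-group acting coprimely on a group with a faithful character

If a `p`-group `P` acts on a normal `p'`-subgroup `K` of `X = K P` and a character of `X` of degree
`n` is faithful on `K`, then the order of `P / C_P(K)` satisfies Schur's bound: the canonical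
extensions of the constituents on `K` induce to a character which is faithful on `P / C_P(K)` and
takes rational values there.
-/

namespace CfsgLib.NumberTheory.SchurBound

open Finset CfsgLib

/-- The sum of a character over all the powers of an element is a multiple of the exponent. -/
theorem sum_powers {H : Type*} [Group H] {m : ℕ} (ρ : Representation ℂ H (Fin m → ℂ)) (g : H)
    {M : ℕ} (hM : M ≠ 0) (hg : g ^ M = 1) :
    ∃ t : ℕ, ∑ j ∈ range M, ρ.character (g ^ j) = (M * t : ℕ) := by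
  have hω := Complex.isPrimitiveRoot_exp M hM
  refine ⟨DegreeTools.Eigen.mult (ρ g) M (Complex.exp (2 * Real.pi * Complex.I / M) ^ 0), ?_⟩
  generalize hω' : Complex.exp (2 * Real.pi * Complex.I / M) = ω at hω
  simp_rw [DegreeTools.Eigen.char_pow_eq_sum ρ g hω hM hg]
  rw [Finset.sum_comm, Finset.sum_eq_single 0]
  · simp [mul_comm]
  · intro i hi hi0
    rw [← Finset.mul_sum]
    simp_rw [pow_mul]
    have hi' : i < M := Finset.mem_range.1 hi
    rw [geom_sum_eq (fun e => hi0 (Nat.eq_zero_of_dvd_of_lt ((hω.pow_eq_one_iff_dvd i).1 e) hi')),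
      ← pow_mul, mul_comm i M, pow_mul, hω.pow_eq_one, one_pow, sub_self, zero_div, mul_zero]
  · intro h0
    exact absurd (Finset.mem_range.2 (Nat.pos_of_ne_zero hM)) h0

/-- A value at a `p`-element fixed by the automorphisms fixing the `N`-th roots of unity,
`p ∤ N`, is rational. -/
theorem rational_of_invariant {H : Type*} [Group H] {p : ℕ} [hp : Fact p.Prime] {N : ℕ}
    (hN : 0 < N) (hpN : ¬ p ∣ N) {m : ℕ} (ρ : Representation ℂ H (Fin m → ℂ)) (g : H) (k : ℕ)
    (hg : g ^ p ^ (k + 1) = 1)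
    (hinv : ∀ σ : ℂ ≃+* ℂ, (∀ r : ℂ, r ^ N = 1 → σ r = r) → σ (ρ.character g) = ρ.character g) :
    ∃ a : ℚ, ρ.character g = a := by
  classical
  set q := p ^ (k + 1) with hq
  have hq0 : 0 < q := pow_pos hp.out.pos _
  have hcop : N.Coprime q := ((hp.out.coprime_iff_not_dvd.2 hpN).pow_left _).symm
  have hNq : N * q ≠ 0 := (Nat.mul_pos hN hq0).ne'
  set ξ := Complex.exp (2 * Real.pi * Complex.I / (N * q : ℕ)) with hξ'
  have hξ : IsPrimitiveRoot ξ (N * q) := Complex.isPrimitiveRoot_exp (N * q) hNq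
  have hω : IsPrimitiveRoot (ξ ^ N) q := hξ.pow (Nat.mul_pos hN hq0) rfl
  have hpow : ∀ j, j.Coprime q → ρ.character (g ^ j) = ρ.character g := by
    intro j hj
    obtain ⟨j', hj1, hj2⟩ := Nat.chineseRemainder hcop 1 j
    have hj' : j'.Coprime (N * q) := by
      refine Nat.Coprime.mul_right ?_ ?_
      · rw [Nat.coprime_iff_gcd_eq_one, hj1.gcd_eq, Nat.gcd_one_left]
      · rw [Nat.coprime_iff_gcd_eq_one, hj2.gcd_eq]
        exact hj
    obtain ⟨σ, hσ⟩ := CharDeep.Galois.exists_ringEquiv_primitive hNq hξ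
      (hξ.pow_of_coprime j' hj')
    have hfixN : ∀ r : ℂ, r ^ N = 1 → σ r = r := by
      intro r hr
      have hN' : IsPrimitiveRoot (ξ ^ q) N := hξ.pow (Nat.mul_pos hN hq0) (mul_comm N q)
      haveI : NeZero N := ⟨hN.ne'⟩
      obtain ⟨i, -, rfl⟩ := hN'.eq_pow_of_pow_eq_one hr
      have h1 : (ξ ^ q) ^ j' = (ξ ^ q) ^ 1 :=
        (pow_eq_pow_mod _ hN'.pow_eq_one).trans
          ((congrArg ((ξ ^ q) ^ ·) hj1).trans (pow_eq_pow_mod _ hN'.pow_eq_one).symm)
      rw [map_pow, map_pow, hσ, ← pow_mul ξ j' q, mul_comm j' q, pow_mul ξ q j', h1, pow_one]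
    conv_rhs => rw [← hinv σ hfixN]
    have h2 := DegreeTools.Eigen.char_pow_eq_sum ρ g hω hq0.ne' hg 1
    rw [pow_one] at h2
    rw [DegreeTools.Eigen.char_pow_eq_sum ρ g hω hq0.ne' hg j, h2, map_sum]
    refine Finset.sum_congr rfl fun i _ => ?_
    rw [map_mul, map_natCast, map_pow, map_pow, hσ]
    congr 1
    simp only [← pow_mul]
    refine (pow_eq_pow_mod _ hξ.pow_eq_one).trans
      ((congrArg (ξ ^ ·) ?_).trans (pow_eq_pow_mod _ hξ.pow_eq_one).symm)
    show Nat.ModEq (N * q) _ _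
    have h3 : N * j' ≡ N * j [MOD N * q] := Nat.ModEq.mul_left' N hj2
    have h4 := (h3.mul_right i).symm
    convert h4 using 1 <;> ring
  obtain ⟨t, ht⟩ := sum_powers ρ g hq0.ne' hg
  obtain ⟨t', ht'⟩ := sum_powers ρ (g ^ p) (pow_ne_zero k hp.out.ne_zero)
    (by rw [← pow_mul, ← pow_succ']; exact hg)
  have hcard : ((range q).filter fun j => ¬ p ∣ j).card = q.totient := by
    rw [Nat.totient_eq_card_coprime, hq]
    congr 1
    refine Finset.filter_congr fun j _ => ?_
    rw [Nat.coprime_pow_left_iff (Nat.succ_pos k)]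
    exact hp.out.coprime_iff_not_dvd.symm
  have hdivj : ((range q).filter fun j => p ∣ j) = (range (p ^ k)).image (fun i => p * i) := by
    ext j
    simp only [Finset.mem_filter, Finset.mem_range, Finset.mem_image]
    constructor
    · rintro ⟨hj, i, rfl⟩
      refine ⟨i, ?_, rfl⟩
      rw [hq, pow_succ, mul_comm (p ^ k)] at hj
      exact Nat.lt_of_mul_lt_mul_left hj
    · rintro ⟨i, hi, rfl⟩
      refine ⟨?_, dvd_mul_right p i⟩
      rw [hq, pow_succ, mul_comm (p ^ k)]
      exact Nat.mul_lt_mul_of_pos_left hi hp.out.pos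
  have hsplit := Finset.sum_filter_add_sum_filter_not (range q) (fun j => p ∣ j)
    (fun j => ρ.character (g ^ j))
  have hsub : ∑ j ∈ (range q).filter (fun j => p ∣ j), ρ.character (g ^ j)
      = ((p ^ k * t' : ℕ) : ℂ) := by
    rw [hdivj, Finset.sum_image (fun i _ j _ e => Nat.eq_of_mul_eq_mul_left hp.out.pos e), ← ht']
    simp_rw [pow_mul]
  have hrest : ∑ j ∈ (range q).filter (fun j => ¬ p ∣ j), ρ.character (g ^ j)
      = (q.totient : ℂ) * ρ.character g := by
    rw [Finset.sum_congr rfl (fun j hj => hpow j ?_), Finset.sum_const, nsmul_eq_mul, hcard]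
    rw [Finset.mem_filter] at hj
    exact ((hp.out.coprime_iff_not_dvd.2 hj.2).pow_left _).symm
  rw [hsub, hrest, ht] at hsplit
  refine ⟨(((q * t : ℕ) : ℚ) - ((p ^ k * t' : ℕ) : ℚ)) / (q.totient : ℚ), ?_⟩
  rw [Rat.cast_div, Rat.cast_sub, Rat.cast_natCast, Rat.cast_natCast, Rat.cast_natCast,
    eq_div_iff (Nat.cast_ne_zero.2 (Nat.totient_pos.2 hq0).ne'), eq_sub_iff_add_eq, ← hsplit]
  ring

variable {X : Type*} [Group X] [Fintype X] {p : ℕ} [hp : Fact p.Prime] (K : Subgroup X) [hKn : K.Normal]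

/-- The orbit of a character of `K`. -/
noncomputable def orbit (φ : Cfsg.IrrCharacter K) : Finset (Cfsg.IrrCharacter K) := by
  classical
  exact Finset.univ.filter fun φ' =>
    ∃ x : X, Char.conjG (φ : K → ℂ) x = (φ' : K → ℂ)

theorem mem_orbit {φ φ' : Cfsg.IrrCharacter K} :
    φ' ∈ orbit K φ ↔ ∃ x : X, Char.conjG (φ : K → ℂ) x = (φ' : K → ℂ) := by
  simp [orbit]

/-- The character induced from the canonical extension of a constituent. -/
theorem orbit_char (hKp : (Nat.card K).Coprime p) (hidx : ∃ a, K.index = p ^ a)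
    (φ : Cfsg.IrrCharacter K) :
    ∃ ψ : X → ℂ, Cfsg.IsCharacter X ψ ∧
      (∀ k : K, ψ k = ∑ φ' ∈ orbit K φ, (φ' : K → ℂ) k) ∧
      (∀ σ : ℂ ≃+* ℂ, (∀ r : ℂ, r ^ Nat.card K = 1 → σ r = r) → ∀ x, σ (ψ x) = ψ x) ∧
      (∀ c ∈ Subgroup.centralizer (K : Set X), (∃ j, c ^ p ^ j = 1) → ψ c = ψ 1) := by
  classical
  set T := Char.stab (φ : K → ℂ) with hT
  have hcf := Char.IsIrrCharacter.isClassFunction φ.2
  have hKT : K ≤ T := Char.le_stab hcf
  haveI : Fintype T := Fintype.ofFinite T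
  haveI : Fintype (K.subgroupOf T) := Fintype.ofFinite _
  let e := Subgroup.subgroupOfEquivOfLe hKT
  let φT : K.subgroupOf T → ℂ := (φ : K → ℂ) ∘ e
  have hφT : Cfsg.IsIrrCharacter (K.subgroupOf T) φT := Char.IsIrrCharacter.comp_equiv φ.2 e
  have hcardK : Nat.card (K.subgroupOf T) = Nat.card K := Nat.card_congr e.toEquiv
  obtain ⟨a, ha⟩ : ∃ a, (K.subgroupOf T).index = p ^ a := by
    obtain ⟨a, ha⟩ := hidx
    have h1 : (K.subgroupOf T).index ∣ p ^ a := ha ▸ Subgroup.relIndex_dvd_index_of_normal K T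
    obtain ⟨b, -, hb⟩ := (Nat.dvd_prime_pow hp.out).1 h1
    exact ⟨b, hb⟩
  have hcop : (K.subgroupOf T).index.Coprime (Nat.card (K.subgroupOf T)) := by
    rw [ha, hcardK]
    exact (hKp.pow_right a).symm
  have hinvT : ∀ (t : T) (k : K.subgroupOf T),
      φT ⟨t * k * t⁻¹, (inferInstance : (K.subgroupOf T).Normal).conj_mem k k.2 t⟩ = φT k := by
    intro t k
    have h := congrFun (Char.mem_stab.1 t.2) (e k)
    exact Eq.trans (congrArg _ (Subtype.ext rfl)) h
  obtain ⟨ζ, hζ, hres, hdet⟩ :=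
    CharDeep.Galois.exists_canonical hcop hφT hinvT
  have hres' : ∀ (k : X) (hk : k ∈ K), ζ ⟨k, hKT hk⟩ = (φ : K → ℂ) ⟨k, hk⟩ :=
    fun k hk => (hres ⟨⟨k, hKT hk⟩, hk⟩).trans (congrArg _ (Subtype.ext rfl))
  refine ⟨Cfsg.indFun T ζ, Char.IsCharacter.indFun T (Char.IsIrrCharacter.isCharacter hζ), ?_, ?_,
    ?_⟩
  · intro k
    have hterm : ∀ x : X, Cfsg.extendByZero T ζ (x⁻¹ * k * x)
        = Char.conjG (φ : K → ℂ) x⁻¹ k := by
      intro x
      have hm : x⁻¹ * (k : X) * x ∈ K := by simpa using hKn.conj_mem _ k.2 x⁻¹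
      rw [Char.extendByZero_apply_mem T ζ (hKT hm), hres' _ hm]
      exact congrArg _ (Subtype.ext (by simp))
    show (Nat.card T : ℂ)⁻¹ * ∑ x : X, Cfsg.extendByZero T ζ (x⁻¹ * k * x) = _
    simp_rw [hterm]
    rw [show (∑ x : X, Char.conjG (φ : K → ℂ) x⁻¹ k) = ∑ x : X, Char.conjG (φ : K → ℂ) x k from
      Equiv.sum_comp (Equiv.inv X) fun x => Char.conjG (φ : K → ℂ) x k]
    rw [← Finset.sum_fiberwise_of_maps_to
      (g := fun x : X => (⟨Char.conjG (φ : K → ℂ) x, Char.IsIrrCharacter.conjG φ.2 x⟩ :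
        Cfsg.IrrCharacter K)) (t := orbit K φ) (fun x _ => (mem_orbit K).2 ⟨x, rfl⟩),
      Finset.mul_sum]
    refine Finset.sum_congr rfl fun φ' hφ' => ?_
    obtain ⟨x₀, hx₀⟩ := (mem_orbit K).1 hφ'
    rw [Finset.sum_congr rfl (g := fun _ => (φ' : K → ℂ) k) fun x hx => by
        rw [Finset.mem_filter] at hx
        rw [← hx.2], Finset.sum_const, nsmul_eq_mul]
    have hcard : (Finset.univ.filter fun x : X =>
        (⟨Char.conjG (φ : K → ℂ) x, Char.IsIrrCharacter.conjG φ.2 x⟩ : Cfsg.IrrCharacter K) = φ').card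
          = Nat.card T := by
      rw [hT, ← Char.card_filter_conjG_eq (φ : K → ℂ) x₀]
      congr 1
      refine Finset.filter_congr fun x _ => ?_
      rw [hx₀, ← Subtype.coe_inj]
    rw [hcard, ← mul_assoc, inv_mul_cancel₀ Char.card_ne_zero, one_mul]
  · intro σ hσ x
    have hσζ : (σ : ℂ →+* ℂ) ∘ ζ = ζ := by
      refine CharDeep.Galois.canonical_unique hcop
        (CharDeep.Galois.isIrrCharacter_map (σ : ℂ →+* ℂ) hζ) hζ hφT (fun k => ?_) hres ?_ hdet
      · show σ (ζ k) = φT k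
        rw [hres k]
        refine Char.IsCharacter.map_apply_eq (Char.IsIrrCharacter.isCharacter hφT) k
          (σ : ℂ →+* ℂ) (RingHom.id ℂ) fun r hr => hσ r ?_
        obtain ⟨c, hc⟩ : orderOf k ∣ Nat.card K := hcardK ▸ orderOf_dvd_natCard k
        rw [hc, pow_mul, hr, one_pow]
      · rw [CharDeep.Galois.detOrder_map (σ : ℂ →+* ℂ) hζ]
        exact hdet
    show σ ((Nat.card T : ℂ)⁻¹ * ∑ y : X, Cfsg.extendByZero T ζ (y⁻¹ * x * y)) = _
    rw [map_mul, map_inv₀, map_natCast, map_sum]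
    refine congrArg _ (Finset.sum_congr rfl fun y _ => ?_)
    by_cases hy : y⁻¹ * x * y ∈ T
    · rw [Char.extendByZero_apply_mem T ζ hy]
      exact congrFun hσζ _
    · rw [Char.extendByZero_apply_notMem T ζ hy, map_zero]
  · rintro c hc ⟨j, hj⟩
    have hcT : ∀ y ∈ Subgroup.centralizer (K : Set X), y ∈ T := by
      intro y hy
      refine Char.mem_stab.2 (funext fun k => ?_)
      rw [Char.conjG_apply]
      refine congrArg (φ : K → ℂ) (Subtype.ext ?_)
      show y * (k : X) * y⁻¹ = k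
      rw [← Subgroup.mem_centralizer_iff.1 hy k k.2, mul_inv_cancel_right]
    have hval : ∀ (y : X) (hy : y ∈ Subgroup.centralizer (K : Set X)), y ^ p ^ j = 1 →
        ζ ⟨y, hcT y hy⟩ = ζ 1 := by
      intro y hy hyj
      obtain ⟨d, π, hπ, hπe⟩ := id hζ
      obtain ⟨d', π', hπ', hπ'e⟩ := id hφT
      haveI := hπ'
      let πK : Representation ℂ (K.subgroupOf T) (Fin d → ℂ) := π.comp (K.subgroupOf T).subtype
      have hch : πK.character = φT := funext fun k => (congrFun hπe k).trans (hres k)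
      obtain ⟨eq⟩ := Char.nonempty_equiv_of_char_eq π' πK (hπ'e.trans hch.symm)
      haveI : πK.IsIrreducible := Char.isIrreducible_of_equiv eq
      set yT : T := ⟨y, hcT y hy⟩
      obtain ⟨s, hs⟩ := CharDeep.IrrTools.exists_smul_of_commute πK (π yT) fun k => by
        show π yT * π (k : T) = π (k : T) * π yT
        rw [← map_mul, ← map_mul]
        exact congrArg _ (Subtype.ext (Subgroup.mem_centralizer_iff.1 hy k k.2).symm)
      have hd : 0 < d := by
        by_contra h0
        obtain rfl : d = 0 := Nat.eq_zero_of_not_pos h0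
        refine Char.IsIrrCharacter.apply_one_ne_zero hζ ?_
        rw [← hπe, Representation.char_one, Module.finrank_fin_fun, Nat.cast_zero]
      set M := (K.subgroupOf T).index with hM
      have hyM : yT ^ M = 1 := by
        have h1 : yT ^ M ∈ K.subgroupOf T := Subgroup.pow_index_mem _ yT
        have h2 : ((yT ^ M : T) : X) ∈ K := h1
        refine Subtype.ext ?_
        have hdvd : orderOf ((yT ^ M : T) : X) ∣ p ^ j := orderOf_dvd_of_pow_eq_one (by
          show (y ^ M) ^ p ^ j = 1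
          rw [← pow_mul, mul_comm, pow_mul, hyj, one_pow])
        have hdvd2 : orderOf ((yT ^ M : T) : X) ∣ Nat.card K := Subgroup.orderOf_dvd_natCard _ h2
        exact orderOf_eq_one_iff.1
          (Nat.eq_one_of_dvd_coprimes (hKp.pow_right j).symm hdvd hdvd2)
      have hsM : s ^ M = 1 := by
        have h1 : (π yT) ^ M = 1 := by rw [← map_pow, hyM, map_one]
        rw [hs, smul_pow, one_pow] at h1
        have h2 := congrArg (LinearMap.trace ℂ (Fin d → ℂ)) h1
        rw [map_smul, LinearMap.trace_one, Module.finrank_fin_fun, smul_eq_mul] at h2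
        exact mul_eq_right₀ (Nat.cast_ne_zero.2 hd.ne') |>.1 h2
      set o := orderOf (CharDeep.DetExt.detHom π) with ho
      have hso : s ^ (d * o) = 1 := by
        have h1 : CharDeep.DetExt.detHom π yT ^ o = 1 :=
          DFunLike.congr_fun (pow_orderOf_eq_one (CharDeep.DetExt.detHom π)) yT
        have h2 := congrArg Units.val h1
        rw [Units.val_pow_eq_pow_val, CharDeep.DetExt.coe_detHom, hs, LinearMap.det_smul, map_one,
          mul_one, Module.finrank_fin_fun, ← pow_mul, Units.val_one] at h2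
        exact h2
      have hs1 : s = 1 := by
        have hco : M.Coprime (d * o) := by
          refine Nat.Coprime.mul_right (CharDeep.Galois.degree_coprime_index hcop hφT ?_) ?_
          · rw [← hch, Representation.char_one, Module.finrank_fin_fun]
          · rw [CharDeep.Galois.detOrder_eq_orderOf π ζ (Char.IsIrrCharacter.isCharacter hζ) hπe]
              at hdet
            exact hdet.symm
        exact orderOf_eq_one_iff.1 (Nat.eq_one_of_dvd_coprimes hco
          (orderOf_dvd_of_pow_eq_one hsM) (orderOf_dvd_of_pow_eq_one hso))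
      rw [← hπe]
      show LinearMap.trace ℂ _ (π yT) = LinearMap.trace ℂ _ (π 1)
      rw [map_one π, hs, hs1, one_smul]
    rw [Char.indFun_one]
    show (Nat.card T : ℂ)⁻¹ * ∑ x : X, Cfsg.extendByZero T ζ (x⁻¹ * c * x) = _
    have hterm : ∀ x : X, Cfsg.extendByZero T ζ (x⁻¹ * c * x) = ζ 1 := by
      intro x
      have hxc : x⁻¹ * c * x ∈ Subgroup.centralizer (K : Set X) := by
        haveI : (Subgroup.centralizer (K : Set X)).Normal := Subgroup.normal_centralizer
        simpa using Subgroup.Normal.conj_mem ‹_› c hc x⁻¹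
      rw [Char.extendByZero_apply_mem T ζ (hcT _ hxc)]
      refine hval _ hxc ?_
      have := conj_pow (i := p ^ j) (a := x⁻¹) (b := c)
      rw [inv_inv] at this
      rw [this, hj, mul_one, inv_mul_cancel]
    simp_rw [hterm]
    rw [Finset.sum_const, Finset.card_univ, nsmul_eq_mul, ← Nat.card_eq_fintype_card,
      ← T.index_mul_card, Nat.cast_mul]
    field_simp [Char.card_ne_zero (G := T)]

/-- **Schur's bound** for a `p`-group acting on a `p'`-group. -/
theorem coprime_bound (hKp : (Nat.card K).Coprime p) {P : Subgroup X} (hP : IsPGroup p P)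
    (hsup : K ⊔ P = ⊤) {χ : X → ℂ} (hχ : Cfsg.IsCharacter X χ)
    (hfaith : ∀ k : K, χ k = χ 1 → k = 1) {n : ℕ} (hn : χ 1 = n) :
    ((Subgroup.centralizer (K : Set X)).relIndex P).factorization p
      ≤ ∑ i ∈ range (n + 1), n / ((p - 1) * p ^ i) := by
  classical
  haveI : Fintype K := Fintype.ofFinite K
  have hidx : ∃ a, K.index = p ^ a := by
    obtain ⟨b, hb⟩ := IsPGroup.iff_card.1 hP
    have h1 : K.index ∣ p ^ b := by
      rw [← hb, ← Subgroup.relIndex_top_right K, ← hsup, sup_comm, Subgroup.relIndex_sup_right]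
      exact Subgroup.relIndex_dvd_card K P
    obtain ⟨a, -, ha⟩ := (Nat.dvd_prime_pow hp.out).1 h1
    exact ⟨a, ha⟩
  obtain ⟨m, hm, hexp⟩ := Char.IsCharacter.exists_multiplicity (Char.IsCharacter.restrict hχ K)
  choose ψ hψc hψK hψσ hψC using orbit_char K hKp hidx
  set Con := Finset.univ.filter fun φ : Cfsg.IrrCharacter K => m φ ≠ 0 with hCon
  let s : Setoid (Cfsg.IrrCharacter K) :=
    { r := fun φ φ' => ∃ x : X, Char.conjG (φ : K → ℂ) x = (φ' : K → ℂ)
      iseqv := ⟨fun φ => ⟨1, Char.conjG_one _⟩,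
        fun {φ φ'} ⟨x, hx⟩ => ⟨x⁻¹, by rw [← hx, Char.conjG_mul, mul_inv_cancel, Char.conjG_one]⟩,
        fun {φ φ' φ''} ⟨x, hx⟩ ⟨y, hy⟩ => ⟨x * y, by rw [← Char.conjG_mul, hx, hy]⟩⟩ }
  let rep : Cfsg.IrrCharacter K → Cfsg.IrrCharacter K := fun φ => (Quotient.mk s φ).out
  have hrep : ∀ φ, ∃ x : X, Char.conjG (rep φ : K → ℂ) x = (φ : K → ℂ) :=
    fun φ => Quotient.mk_out (s := s) φ
  have hrep_eq : ∀ φ φ' : Cfsg.IrrCharacter K, (∃ x : X, Char.conjG (φ : K → ℂ) x = (φ' : K → ℂ)) → rep φ = rep φ' :=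
    fun φ φ' h => congrArg Quotient.out (Quotient.sound (s := s) h)
  have hmconj : ∀ φ φ' : Cfsg.IrrCharacter K, (∃ x : X, Char.conjG (φ : K → ℂ) x = (φ' : K → ℂ)) → m φ = m φ' := by
    rintro φ φ' ⟨x, hx⟩
    have h := Char.classInner_conjG (fun k : K => χ k) (φ : K → ℂ) x
    rw [hx, show Char.conjG (fun k : K => χ k) x = (fun k : K => χ k) from
      funext fun k => Char.IsCharacter.isClassFunction hχ k x, hm, hm] at h
    exact_mod_cast h.symm
  set R := Con.image rep with hR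
  have hfib : ∀ φ₀ ∈ R, orbit K φ₀ = Con.filter fun φ => rep φ = φ₀ := by
    intro φ₀ h₀
    obtain ⟨φ₁, h₁, rfl⟩ := Finset.mem_image.1 h₀
    ext φ
    rw [mem_orbit, Finset.mem_filter]
    constructor
    · intro h
      have h2 : rep (rep φ₁) = rep φ₁ := congrArg Quotient.out (Quotient.out_eq _)
      refine ⟨?_, (hrep_eq _ _ h).symm.trans h2⟩
      rw [hCon, Finset.mem_filter] at h₁ ⊢
      refine ⟨Finset.mem_univ _, ?_⟩
      rw [← hmconj _ _ h, hmconj _ _ (hrep φ₁)]
      exact h₁.2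
    · rintro ⟨-, h⟩
      rw [← h]
      exact hrep φ
  set Θ : X → ℂ := fun x => ∑ φ₀ ∈ R, ψ φ₀ x with hΘ
  have hΘc : Cfsg.IsCharacter X Θ := by
    have := Char.isCharacter_sum R (fun φ₀ => ψ φ₀) (fun φ₀ _ => hψc φ₀)
    convert this using 1
    ext x
    simp [hΘ]
  have hΘK : ∀ k : K, Θ k = ∑ φ ∈ Con, (φ : K → ℂ) k := by
    intro k
    rw [hΘ, ← Finset.sum_fiberwise_of_maps_to (g := rep) (t := R)
      (fun φ hφ => Finset.mem_image_of_mem rep hφ)]
    exact Finset.sum_congr rfl fun φ₀ h₀ => by rw [hψK, hfib φ₀ h₀]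
  choose deg hdeg hdeg' using fun φ : Cfsg.IrrCharacter K => Char.IsIrrCharacter.apply_one_eq φ.2
  set n' := ∑ φ ∈ Con, deg φ with hn'
  have hΘ1 : Θ 1 = n' := by
    have h := hΘK 1
    rw [Subgroup.coe_one] at h
    rw [h, hn', Nat.cast_sum]
    exact Finset.sum_congr rfl fun φ _ => hdeg' φ
  have hn'n : n' ≤ n := by
    have h1 : n = ∑ φ, m φ * deg φ := by
      have h := hexp 1
      simp only [Subgroup.coe_one, hn] at h
      have h2 : (n : ℂ) = ((∑ φ, m φ * deg φ : ℕ) : ℂ) := by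
        rw [h]
        push_cast
        exact Finset.sum_congr rfl fun φ _ => by rw [hdeg']
      exact_mod_cast h2
    rw [h1, hn']
    calc ∑ φ ∈ Con, deg φ ≤ ∑ φ ∈ Con, m φ * deg φ :=
          Finset.sum_le_sum fun φ hφ => Nat.le_mul_of_pos_left _
            (Nat.pos_of_ne_zero (Finset.mem_filter.1 hφ).2)
      _ ≤ _ := Finset.sum_le_sum_of_subset (Finset.subset_univ _)
  have hΘfK : ∀ k : K, Θ k = Θ 1 → k = 1 := by
    intro k hk
    refine hfaith k ?_
    show χ (k : X) = χ ((1 : K) : X)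
    rw [hexp k, hexp 1]
    refine Finset.sum_congr rfl fun φ _ => ?_
    by_cases h0 : m φ = 0
    · simp [h0]
    congr 1
    refine Char.IsCharacter.constituent_apply_eq_one (χ := fun k : K => Θ k)
      (Char.IsCharacter.restrict hΘc K) φ.2 ?_ hk
    have hΘK' : (fun k : K => Θ k) = ∑ φ' ∈ Con, (φ' : K → ℂ) := by
      ext k'
      rw [Finset.sum_apply]
      exact hΘK k'
    rw [hΘK', Char.classInner_sum_left, Finset.sum_eq_single φ
      (fun φ' _ hne => Char.classInner_irr_ne φ'.2 φ.2 fun e => hne (Subtype.ext e))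
      (fun h => absurd (Finset.mem_filter.2 ⟨Finset.mem_univ _, h0⟩ : φ ∈ Con) h),
      Char.classInner_irr_self φ.2]
    exact one_ne_zero
  -- the quotient `P / C_P(K)`
  set C := (Subgroup.centralizer (K : Set X)).subgroupOf P with hC
  haveI : (Subgroup.centralizer (K : Set X)).Normal := Subgroup.normal_centralizer
  haveI : C.Normal := Subgroup.Normal.subgroupOf inferInstance P
  have hpow : ∀ x : P, ∃ j, (x : X) ^ p ^ j = 1 := fun x => by
    obtain ⟨j, hj⟩ := hP x
    exact ⟨j, by rw [← Subgroup.coe_pow, hj, Subgroup.coe_one]⟩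
  obtain ⟨θ, hθ, hθe⟩ := Char.IsCharacter.exists_deflate (Char.IsCharacter.restrict hΘc P) C
    fun c hc => Finset.sum_congr rfl fun φ₀ _ => hψC φ₀ _ hc (hpow c)
  have hθ1 : θ 1 = n' := by
    have := congrFun hθe 1
    simp only [Function.comp_apply, map_one, Subgroup.coe_one] at this
    rw [← this, hΘ1]
  have hθf : ∀ h : P ⧸ C, θ h = θ 1 → h = 1 := by
    intro h hh
    obtain ⟨x, rfl⟩ := QuotientGroup.mk'_surjective C h
    refine (QuotientGroup.eq_one_iff x).2 (Subgroup.mem_centralizer_iff.2 fun k hk => ?_)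
    have hx : Θ x = Θ 1 := by
      have := congrFun hθe x
      simp only [Function.comp_apply] at this
      rw [this, hh, hθ1, hΘ1]
    have hker : (x : X) ∈ Char.charKer hΘc := hx
    haveI := Char.charKer_normal hΘc
    have h1 : k * (x : X) * k⁻¹ * (x : X)⁻¹ ∈ Char.charKer hΘc :=
      mul_mem (Subgroup.Normal.conj_mem inferInstance _ hker k) (inv_mem hker)
    have h2 : k * (x : X) * k⁻¹ * (x : X)⁻¹ ∈ K := by
      have : k * (x : X) * k⁻¹ * (x : X)⁻¹ = k * ((x : X) * k⁻¹ * (x : X)⁻¹) := by group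
      rw [this]
      exact mul_mem hk (hKn.conj_mem _ (inv_mem hk) _)
    have h3 := congrArg Subtype.val (hΘfK ⟨_, h2⟩ h1)
    exact mul_inv_eq_iff_eq_mul.1 (mul_inv_eq_one.1 h3)
  obtain ⟨d, ρ, hρ⟩ := hθ
  have hpK : ¬ p ∣ Nat.card K := hp.out.coprime_iff_not_dvd.1 hKp.symm
  have hval : ∀ h, θ h ∈ IntermediateField.adjoin ℚ
      ({Complex.exp (2 * Real.pi * Complex.I / (1 : ℕ))} : Set ℂ) := by
    intro h
    obtain ⟨x, rfl⟩ := QuotientGroup.mk'_surjective C h
    obtain ⟨j, hj⟩ := hP.to_quotient C (QuotientGroup.mk' C x)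
    obtain ⟨a, ha⟩ := rational_of_invariant (Nat.card_pos (α := K)) hpK ρ (QuotientGroup.mk' C x) j
      (by rw [pow_succ, pow_mul, hj, one_pow]) fun σ hσ => by
        have := congrFun hθe x
        simp only [Function.comp_apply] at this
        rw [hρ, ← this, hΘ, map_sum]
        exact Finset.sum_congr rfl fun φ₀ _ => hψσ φ₀ σ hσ _
    rw [← hρ, ha]
    exact SubfieldClass.ratCast_mem _ a
  have key := bound (hP.to_quotient C) ⟨d, ρ, hρ⟩ hθf hθ1 one_pos hp.out.not_dvd_one hval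
  refine key.trans ((Finset.sum_le_sum fun i _ => Nat.div_le_div_right hn'n).trans
    (Finset.sum_le_sum_of_subset (Finset.range_subset_range.2 (by omega))))

end CfsgLib.NumberTheory.SchurBound
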