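import Mathlib.GroupTheory.Perm.Cycle.Type
import Mathlib.GroupTheory.Solvable
import Mathlib.GroupTheory.Perm.ViaEmbedding
import Mathlib.Data.Fintype.Perm
import Mathlib.Tactic.Group

/-!
# Groups generated by few transpositions

For `m` transpositions of a finite type there is an invariant labelling with all fibres of size
`≤ m + 1`.  Hence every prime dividing the order of the generated group is `≤ m + 1`, and three
transpositions generate a solvable group.
-/

open Equiv

namespace CfsgLib.NumberTheory.SwapClosure

variable {α : Type*} [Fintype α] [DecidableEq α]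

theorem exists_labelling {m : ℕ} (t : Fin m → Perm α) (ht : ∀ i, (t i).IsSwap) :
    ∃ f : α → α, (∀ i x, f (t i x) = f x) ∧
      Fintype.card α ≤ (Finset.univ.image f).card + m := by
  induction m with
  | zero => exact ⟨id, fun i => i.elim0, by simp⟩
  | succ m ih =>
    obtain ⟨f, hf, hcard⟩ := ih (fun i => t i.castSucc) (fun i => ht _)
    obtain ⟨u, v, -, huv⟩ := ht (Fin.last m)
    let g : α → α := fun y => if y = f u then f v else y
    refine ⟨g ∘ f, fun i x => ?_, ?_⟩
    · induction i using Fin.lastCases with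
      | last =>
        show g (f (t (Fin.last m) x)) = g (f x)
        rw [huv]
        rcases eq_or_ne x u with rfl | hxu
        · rw [swap_apply_left]; simp [g]
        rcases eq_or_ne x v with rfl | hxv
        · rw [swap_apply_right]; simp [g]
        rw [swap_apply_of_ne_of_ne hxu hxv]
      | cast i => exact congrArg g (hf i x)
    · have hsub : (Finset.univ.image f).erase (f u) ⊆ Finset.univ.image (g ∘ f) := by
        intro y hy
        obtain ⟨hy1, hy2⟩ := Finset.mem_erase.1 hy
        obtain ⟨z, -, rfl⟩ := Finset.mem_image.1 hy2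
        exact Finset.mem_image.2 ⟨z, Finset.mem_univ _, by simp [g, hy1]⟩
      have h1 := Finset.card_le_card hsub
      have h2 := Finset.pred_card_le_card_erase (s := Finset.univ.image f) (a := f u)
      omega

omit [DecidableEq α] in
theorem fibre_le {m : ℕ} [DecidableEq α] {f : α → α}
    (hcard : Fintype.card α ≤ (Finset.univ.image f).card + m) (c : α) :
    (Finset.univ.filter fun x => f x = c).card ≤ m + 1 := by
  classical
  have h := Finset.card_eq_sum_card_image f (Finset.univ : Finset α)
  by_cases hc : c ∈ Finset.univ.image f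
  · rw [← Finset.add_sum_erase _ _ hc, Finset.card_univ] at h
    have h1 : ((Finset.univ.image f).erase c).card ≤
        ∑ b ∈ (Finset.univ.image f).erase c, (Finset.univ.filter fun x => f x = b).card := by
      rw [Finset.card_eq_sum_ones]
      refine Finset.sum_le_sum fun b hb => ?_
      obtain ⟨z, -, hz⟩ := Finset.mem_image.1 (Finset.mem_of_mem_erase hb)
      exact Finset.card_pos.2 ⟨z, Finset.mem_filter.2 ⟨Finset.mem_univ _, hz⟩⟩
    rw [Finset.card_erase_of_mem hc] at h1
    omega
  · have : (Finset.univ.filter fun x => f x = c) = ∅ := by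
      refine Finset.filter_eq_empty_iff.2 fun x _ hx => hc (Finset.mem_image.2 ⟨x, Finset.mem_univ _, hx⟩)
    rw [this]
    simp

/-- The permutations preserving a labelling. -/
def preserver (f : α → α) : Subgroup (Perm α) where
  carrier := {s | ∀ x, f (s x) = f x}
  one_mem' _ := rfl
  mul_mem' {a b} ha hb x := (ha (b x)).trans (hb x)
  inv_mem' {a} ha x := by
    have := (ha (a⁻¹ x)).symm
    rwa [show a (a⁻¹ x) = x from a.apply_symm_apply x] at this

theorem closure_le_preserver {m : ℕ} (t : Fin m → Perm α) {f : α → α}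
    (hf : ∀ i x, f (t i x) = f x) : Subgroup.closure (Set.range t) ≤ preserver f := by
  rw [Subgroup.closure_le]
  rintro _ ⟨i, rfl⟩
  exact hf i

/-- Every prime dividing the order of a group generated by `m` transpositions is `≤ m + 1`. -/
theorem prime_le {m p : ℕ} (t : Fin m → Perm α) (ht : ∀ i, (t i).IsSwap) (hp : p.Prime)
    (hd : p ∣ Nat.card (Subgroup.closure (Set.range t))) : p ≤ m + 1 := by
  obtain ⟨f, hf, hcard⟩ := exists_labelling t ht
  have := Fact.mk hp
  obtain ⟨g, hg⟩ := exists_prime_orderOf_dvd_card' p hd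
  have hgp : orderOf (g : Perm α) = p := by rw [Subgroup.orderOf_coe, hg]
  have hgne : (g : Perm α) ≠ 1 := fun h => hp.ne_one (by rw [← hgp, h, orderOf_one])
  obtain ⟨a, ha⟩ : ∃ a, (g : Perm α) a ≠ a := by
    by_contra hc
    exact hgne (Perm.ext fun a => not_not.1 fun h => hc ⟨a, h⟩)
  have hcyc : ((g : Perm α).cycleOf a).IsCycle := Perm.isCycle_cycleOf _ ha
  have hlen : ((g : Perm α).cycleOf a).support.card = p := by
    have h1 : ((g : Perm α).cycleOf a).support.card ∈ (g : Perm α).cycleType := by
      rw [Perm.cycleType_def]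
      refine Multiset.mem_map.2 ⟨(g : Perm α).cycleOf a, ?_, rfl⟩
      exact Perm.cycleOf_mem_cycleFactorsFinset_iff.2 (Perm.mem_support.2 ha)
    have h2 := Perm.dvd_of_mem_cycleType h1
    rw [hgp] at h2
    exact ((Nat.dvd_prime hp).1 h2).resolve_left
      (by have := hcyc.two_le_card_support; omega)
  calc p = ((g : Perm α).cycleOf a).support.card := hlen.symm
    _ ≤ (Finset.univ.filter fun x => f x = f a).card := by
        refine Finset.card_le_card fun x hx => Finset.mem_filter.2 ⟨Finset.mem_univ _, ?_⟩
        obtain ⟨i, rfl⟩ := (Perm.mem_support_cycleOf_iff.1 hx).1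
        exact (zpow_mem (closure_le_preserver t hf g.2) i : _) a
    _ ≤ m + 1 := fibre_le hcard _

/-- `Perm (Fin 4)` is solvable. -/
theorem isSolvable_perm_fin_four : Group.IsSolvable (Perm (Fin 4)) := by
  let V : Subgroup (Perm (Fin 4)) :=
    { carrier := {x | Perm.sign x = 1 ∧ x ^ 2 = 1}
      one_mem' := ⟨map_one _, one_pow 2⟩
      mul_mem' := fun {a b} ha hb => by
        have key : ∀ a b : Perm (Fin 4), (Perm.sign a = 1 ∧ a ^ 2 = 1) →
            (Perm.sign b = 1 ∧ b ^ 2 = 1) → (Perm.sign (a * b) = 1 ∧ (a * b) ^ 2 = 1) := by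
          decide +kernel
        exact key a b ha hb
      inv_mem' := fun {a} ha => by
        exact ⟨by rw [map_inv, ha.1, inv_one], by rw [inv_pow, ha.2, inv_one]⟩ }
  refine ⟨⟨3, ?_⟩⟩
  have h1 : derivedSeries (Perm (Fin 4)) 1 ≤ (Perm.sign (α := Fin 4)).ker := by
    rw [derivedSeries_one]
    exact Abelianization.commutator_subset_ker _
  have h2 : derivedSeries (Perm (Fin 4)) 2 ≤ V := by
    rw [derivedSeries_succ, Subgroup.commutator_le]
    intro a ha b hb
    have key : ∀ a b : Perm (Fin 4), Perm.sign a = 1 → Perm.sign b = 1 →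
        (Perm.sign (a * b * a⁻¹ * b⁻¹) = 1 ∧ (a * b * a⁻¹ * b⁻¹) ^ 2 = 1) := by decide +kernel
    exact key a b (h1 ha) (h1 hb)
  rw [derivedSeries_succ, Subgroup.commutator_eq_bot_iff_le_centralizer]
  intro a ha
  rw [Subgroup.mem_centralizer_iff]
  intro b hb
  have key : ∀ a b : Perm (Fin 4), (Perm.sign a = 1 ∧ a ^ 2 = 1) →
      (Perm.sign b = 1 ∧ b ^ 2 = 1) → b * a = a * b := by decide +kernel
  exact key a b (h2 ha) (h2 hb)

/-- A group generated by three transpositions is solvable. -/
theorem isSolvable_three (t : Fin 3 → Perm α) (ht : ∀ i, (t i).IsSwap) :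
    Group.IsSolvable (Subgroup.closure (Set.range t)) := by
  classical
  obtain ⟨f, hf, hcard⟩ := exists_labelling t ht
  have hle := closure_le_preserver t hf
  let φ : Subgroup.closure (Set.range t) →* ((c : α) → Perm {x : α // f x = c}) :=
    { toFun := fun g c => (g : Perm α).subtypePerm fun x => by rw [hle g.2 x]
      map_one' := by funext c; ext x; rfl
      map_mul' := fun a b => by funext c; ext x; rfl }
  have hφ : Function.Injective φ := fun a b h => Subtype.ext <| Perm.ext fun x =>
    congrArg Subtype.val (Perm.congr_fun (congrFun h (f x)) ⟨x, rfl⟩)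
  have hs : ∀ c : α, Group.IsSolvable (Perm {x : α // f x = c}) := by
    intro c
    have hc : Fintype.card {x : α // f x = c} ≤ Fintype.card (Fin 4) := by
      rw [Fintype.card_subtype, Fintype.card_fin]
      exact fibre_le hcard c
    obtain ⟨e⟩ := Function.Embedding.nonempty_of_card_le hc
    have := isSolvable_perm_fin_four
    exact Group.isSolvable_of_isSolvable_injective (f := Perm.viaEmbeddingHom e)
      (Perm.viaEmbeddingHom_injective e)
  obtain ⟨N, hN⟩ : ∃ N, ∀ c : α, derivedSeries (Perm {x : α // f x = c}) N = ⊥ := by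
    choose n hn using fun c => (hs c).solvable
    refine ⟨Finset.univ.sup n, fun c => le_bot_iff.1 ?_⟩
    rw [← hn c]
    exact derivedSeries_antitone _ (Finset.le_sup (Finset.mem_univ c))
  have : Group.IsSolvable ((c : α) → Perm {x : α // f x = c}) := ⟨⟨N, ?_⟩⟩
  · exact Group.isSolvable_of_isSolvable_injective (f := φ) hφ
  rw [Subgroup.eq_bot_iff_forall]
  intro g hg
  funext c
  have := map_derivedSeries_le_derivedSeries (Pi.evalMonoidHom (fun c => Perm {x : α // f x = c}) c) N
    ⟨g, hg, rfl⟩
  rw [hN c, Subgroup.mem_bot] at this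
  exact this

end CfsgLib.NumberTheory.SwapClosure
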