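import Cfsg.Agent.Lib.Char.Basic
import Cfsg.Agent.Lib.Char.Orth
import Cfsg.Agent.Lib.DegreeTools.Eigen
import Mathlib.RingTheory.Polynomial.Cyclotomic.Eval
import Mathlib.RingTheory.Polynomial.Cyclotomic.Roots
import Mathlib.FieldTheory.IntermediateField.Adjoin.Basic
import Mathlib.NumberTheory.Padics.PadicVal.Basic
import Mathlib.RingTheory.RootsOfUnity.Complex
import Mathlib.GroupTheory.PGroup

/-!
# Schur's bound for the order of a `p`-group with a faithful character of given rationality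

If a faithful character of degree `n` of a `p`-group takes its values in `ℚ(ζ_r)` with `p ∤ r`,
then the exponent of `p` in the group order is at most `∑ i, ⌊n / ((p-1) p^i)⌋`.

The values at nontrivial elements are rational integers `n - p M` with `1 ≤ M ≤ n / (p - 1)`; hence
the group order divides `∏ M, p M`.
-/

namespace CfsgLib.NumberTheory.SchurBound

open Polynomial Finset IntermediateField

/-- `Φ_{p^k}` is the minimal polynomial of a primitive `p^k`-th root of unity over `ℚ(ζ_r)`. -/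
theorem minpoly_eq {r q : ℕ} (hr : 0 < r) (hq : 0 < q) (hcop : r.Coprime q) {ζ ω : ℂ}
    (hζ : IsPrimitiveRoot ζ r) (hω : IsPrimitiveRoot ω q) :
    minpoly ℚ⟮ζ⟯ ω = cyclotomic q ℚ⟮ζ⟯ := by
  set F := ℚ⟮ζ⟯ with hF
  have hωi : IsIntegral F ω := (hω.isIntegral hq).tower_top
  have hξ : IsPrimitiveRoot (ζ * ω) (r * q) := by
    have h := (Commute.all ζ ω).orderOf_mul_eq_mul_orderOf_of_coprime
      (by rwa [← hζ.eq_orderOf, ← hω.eq_orderOf])
    rw [← hζ.eq_orderOf, ← hω.eq_orderOf] at h
    rw [← h]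
    exact IsPrimitiveRoot.orderOf _
  haveI : FiniteDimensional ℚ F :=
    IntermediateField.adjoin.finiteDimensional ((hζ.isIntegral hr).tower_top)
  haveI : FiniteDimensional F F⟮ω⟯ := IntermediateField.adjoin.finiteDimensional hωi
  haveI : FiniteDimensional ℚ F⟮ω⟯ := Module.Finite.trans F _
  have h1 : Module.finrank ℚ F = r.totient := by
    rw [hF, IntermediateField.adjoin.finrank ((hζ.isIntegral hr).tower_top),
      ← cyclotomic_eq_minpoly_rat hζ hr, natDegree_cyclotomic]
  have h2 : Module.finrank F F⟮ω⟯ = (minpoly F ω).natDegree :=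
    IntermediateField.adjoin.finrank hωi
  have h3 : (r * q).totient ≤ r.totient * (minpoly F ω).natDegree := by
    rw [← h1, ← h2, Module.finrank_mul_finrank,
      show (r * q).totient = Module.finrank ℚ ℚ⟮ζ * ω⟯ by
        rw [IntermediateField.adjoin.finrank ((hξ.isIntegral (Nat.mul_pos hr hq)).tower_top),
          ← cyclotomic_eq_minpoly_rat hξ (Nat.mul_pos hr hq), natDegree_cyclotomic]]
    have hle : ℚ⟮ζ * ω⟯ ≤ (F⟮ω⟯).restrictScalars ℚ := by
      rw [IntermediateField.adjoin_simple_le_iff]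
      exact mul_mem ((F⟮ω⟯).algebraMap_mem ⟨ζ, IntermediateField.mem_adjoin_simple_self ℚ ζ⟩)
        (IntermediateField.mem_adjoin_simple_self F ω)
    haveI : FiniteDimensional ℚ ↥((F⟮ω⟯).restrictScalars ℚ) := ‹FiniteDimensional ℚ F⟮ω⟯›
    exact LinearMap.finrank_le_finrank_of_injective
      (f := (IntermediateField.inclusion hle).toLinearMap) (IntermediateField.inclusion hle).injective
  have h4 : minpoly F ω ∣ cyclotomic q F := by
    refine minpoly.dvd F ω ?_
    rw [aeval_def, eval₂_eq_eval_map, map_cyclotomic]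
    exact hω.isRoot_cyclotomic hq
  refine eq_of_monic_of_dvd_of_natDegree_le (minpoly.monic hωi) (cyclotomic.monic q F) h4 ?_ |>.symm
  rw [natDegree_cyclotomic]
  rw [Nat.totient_mul hcop] at h3
  exact Nat.le_of_mul_le_mul_left h3 (Nat.totient_pos.2 hr)

variable {H : Type*} [Group H] [Finite H]

/-- The value of a character at a nontrivial `p`-element with values in `ℚ(ζ_r)`. -/
theorem value {p : ℕ} [hp : Fact p.Prime] {r : ℕ} (hr : 0 < r) (hpr : ¬ p ∣ r) {ζ : ℂ}
    (hζ : IsPrimitiveRoot ζ r) (m : ℕ) (ρ : Representation ℂ H (Fin m → ℂ))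
    (hval : ∀ g, ρ.character g ∈ ℚ⟮ζ⟯) (g : H) (k : ℕ) (hg : g ^ p ^ (k + 1) = 1) :
    ∃ a : ℤ, ρ.character g = a ∧ (p : ℤ) ∣ (m : ℤ) - a ∧
      -(m : ℤ) ≤ ((p : ℤ) - 1) * a := by
  classical
  set q := p ^ (k + 1) with hq
  have hq0 : 0 < q := pow_pos hp.out.pos _
  set ω := Complex.exp (2 * Real.pi * Complex.I / q) with hω'
  have hω : IsPrimitiveRoot ω q := Complex.isPrimitiveRoot_exp q hq0.ne'
  have hcop : r.Coprime q := ((hp.out.coprime_iff_not_dvd.2 hpr).pow_left _).symm
  set μ := fun j => DegreeTools.Eigen.mult (ρ g) q (ω ^ j) with hμ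
  have htr : ∀ j, ρ.character (g ^ j) = ∑ i ∈ range q, (μ i : ℂ) * ω ^ (i * j) :=
    fun j => DegreeTools.Eigen.char_pow_eq_sum ρ g hω hq0.ne' hg j
  set f : ℤ[X] := ∑ i ∈ range q, C (μ i : ℤ) * X ^ i with hf
  have hfev : ∀ j, aeval (ω ^ j) f = ρ.character (g ^ j) := fun j => by
    rw [htr, hf, map_sum]
    refine Finset.sum_congr rfl fun i _ => ?_
    rw [map_mul, aeval_C, map_pow, aeval_X, ← pow_mul, mul_comm j i]
    simp
  set h := f %ₘ cyclotomic q ℤ with hh
  have hdiv : h + cyclotomic q ℤ * (f /ₘ cyclotomic q ℤ) = f := modByMonic_add_div f _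
  have hroot : ∀ j, j.Coprime q → aeval (ω ^ j) h = ρ.character (g ^ j) := by
    intro j hj
    have h0 : aeval (ω ^ j) (cyclotomic q ℤ) = 0 := by
      rw [aeval_def, eval₂_eq_eval_map, map_cyclotomic]
      exact (hω.pow_of_coprime j hj).isRoot_cyclotomic hq0
    rw [← hfev, ← hdiv, map_add, map_mul, h0, zero_mul, add_zero]
  have hdeg : h.natDegree < q.totient := by
    have := natDegree_modByMonic_lt f (cyclotomic.monic q ℤ)
      (fun e => by
        have := congrArg natDegree e
        rw [natDegree_cyclotomic, natDegree_one] at this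
        exact (Nat.totient_pos.2 hq0).ne' this)
    rwa [natDegree_cyclotomic] at this
  -- `h` is constant
  set c : ℚ⟮ζ⟯ := ⟨ρ.character g, hval g⟩ with hc
  have hmin := minpoly_eq hr hq0 hcop hζ hω
  have hzero : h.map (algebraMap ℤ ℚ⟮ζ⟯) - C c = 0 := by
    by_contra hne
    have h1 := minpoly.dvd ℚ⟮ζ⟯ ω (p := h.map (algebraMap ℤ ℚ⟮ζ⟯) - C c) (by
      rw [map_sub, aeval_map_algebraMap, aeval_C]
      have := hroot 1 (Nat.coprime_one_left q)
      rw [pow_one, pow_one] at this
      rw [this]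
      exact sub_self _)
    rw [hmin] at h1
    have h2 := natDegree_le_of_dvd h1 hne
    rw [natDegree_cyclotomic] at h2
    have h3 : (h.map (algebraMap ℤ ℚ⟮ζ⟯) - C c).natDegree ≤ h.natDegree := by
      rw [natDegree_sub_C]
      exact natDegree_map_le
    omega
  have hconst : h = C (h.coeff 0) := by
    ext i
    rcases i with - | i
    · simp
    · have := congrArg (fun P => P.coeff (i + 1)) hzero
      simp only [coeff_sub, coeff_map, coeff_C, Nat.add_one_ne_zero, if_false, sub_zero,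
        coeff_zero] at this
      rw [coeff_C, if_neg (Nat.add_one_ne_zero i)]
      exact (map_eq_zero_iff _ (algebraMap ℤ ℚ⟮ζ⟯).injective_int).1 this
  set a := h.coeff 0 with ha
  have hva : ∀ j, j.Coprime q → ρ.character (g ^ j) = a := fun j hj => by
    rw [← hroot j hj, hconst, aeval_C]
    simp
  refine ⟨a, by simpa using hva 1 (Nat.coprime_one_left q), ?_, ?_⟩
  · have hf1 : f.eval 1 = (m : ℤ) := by
      rw [hf, eval_finsetSum]
      simp only [eval_mul, eval_C, eval_pow, eval_X, one_pow, mul_one]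
      rw [← Nat.cast_sum, hμ, DegreeTools.Eigen.sum_mult hω
        (by rw [← map_pow, hg, map_one]) hq0.ne', Module.finrank_fin_fun]
    have := congrArg (eval 1) hdiv
    rw [hf1, hconst, eval_add, eval_mul, eval_C, hq, eval_one_cyclotomic_prime_pow] at this
    exact ⟨eval 1 (f /ₘ cyclotomic (p ^ (k + 1)) ℤ), by linarith⟩
  · -- averaging over the powers
    have htot : ∀ S : Finset ℕ, S = (range q).filter (fun j => ¬ p ∣ j) →
        ∑ j ∈ S, ρ.character (g ^ j) = ((q.totient : ℤ) * a : ℤ) := by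
      intro S hS
      have hmem : ∀ j ∈ S, j.Coprime q := fun j hj => by
        rw [hS, Finset.mem_filter] at hj
        exact ((hp.out.coprime_iff_not_dvd.2 hj.2).pow_left _).symm
      rw [Finset.sum_congr rfl (fun j hj => hva j (hmem j hj)), Finset.sum_const, nsmul_eq_mul]
      have hcard : S.card = q.totient := by
        rw [hS, Nat.totient_eq_card_coprime, hq]
        congr 1
        refine Finset.filter_congr fun j _ => ?_
        rw [Nat.coprime_pow_left_iff (Nat.succ_pos k)]
        exact hp.out.coprime_iff_not_dvd.symm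
      rw [hcard]
      push_cast
      rfl
    have hall : ∑ j ∈ range q, ρ.character (g ^ j) = (q * μ 0 : ℕ) := by
      simp_rw [htr]
      rw [Finset.sum_comm, Finset.sum_eq_single 0]
      · simp [mul_comm]
      · intro i hi hi0
        rw [← Finset.mul_sum]
        simp_rw [pow_mul]
        have hi' : i < q := Finset.mem_range.1 hi
        rw [geom_sum_eq (fun e => hi0 (Nat.eq_zero_of_dvd_of_lt ((hω.pow_eq_one_iff_dvd i).1 e) hi')),
          ← pow_mul, mul_comm i q, pow_mul, hω.pow_eq_one, one_pow, sub_self, zero_div, mul_zero]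
      · intro h0
        exact absurd (Finset.mem_range.2 hq0) h0
    have hdivj : ((range q).filter fun j => p ∣ j) = (range (p ^ k)).image (fun i => p * i) := by
      ext j
      simp only [Finset.mem_filter, Finset.mem_range, Finset.mem_image]
      constructor
      · rintro ⟨hj, i, rfl⟩
        refine ⟨i, ?_, rfl⟩
        rw [hq, pow_succ, mul_comm (p ^ k)] at hj
        exact Nat.lt_of_mul_lt_mul_left hj
      · rintro ⟨i, hi, rfl⟩
        refine ⟨?_, dvd_mul_right p i⟩
        rw [hq, pow_succ, mul_comm (p ^ k)]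
        exact Nat.mul_lt_mul_of_pos_left hi hp.out.pos
    have hsub : ‖∑ j ∈ (range q).filter (fun j => p ∣ j), ρ.character (g ^ j)‖ ≤
        (p ^ k * m : ℕ) := by
      rw [hdivj, Finset.sum_image (fun i _ j _ e => Nat.eq_of_mul_eq_mul_left hp.out.pos e)]
      refine (norm_sum_le _ _).trans ((Finset.sum_le_card_nsmul _ _ (m : ℝ) fun i _ => ?_).trans ?_)
      · exact (Char.norm_char_le ρ _).trans_eq (by rw [Module.finrank_fin_fun])
      · rw [Finset.card_range, nsmul_eq_mul]
        push_cast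
        exact le_rfl
    have hsplit := Finset.sum_filter_add_sum_filter_not (range q) (fun j => p ∣ j)
      (fun j => ρ.character (g ^ j))
    rw [htot _ rfl, hall] at hsplit
    have hre := congrArg Complex.re hsplit
    rw [Complex.add_re, Complex.intCast_re, Complex.natCast_re] at hre
    have hle := (Complex.re_le_norm _).trans hsub
    have hreal : (0 : ℝ) ≤ ((p ^ k * m : ℕ) : ℝ) + (((q.totient : ℤ) * a : ℤ) : ℝ) := by
      have : (0 : ℝ) ≤ ((q * μ 0 : ℕ) : ℝ) := Nat.cast_nonneg _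
      linarith
    rw [hq, Nat.totient_prime_pow_succ hp.out] at hreal
    have hint : (0 : ℤ) ≤ ((p ^ k * m : ℕ) : ℤ) + ((p ^ k * (p - 1) : ℕ) : ℤ) * a := by
      exact_mod_cast hreal
    have hp1 : 1 ≤ p := hp.out.one_le
    push_cast [Nat.cast_sub hp1] at hint
    have hpk : (0 : ℤ) < (p : ℤ) ^ k := pow_pos (by exact_mod_cast hp.out.pos) k
    nlinarith

/-- `∑ ψ h ∏ (θ h - c M)` is an integral multiple of the group order. -/
theorem exists_sum_eq [Fintype H] {θ : H → ℂ} (hθ : Cfsg.IsCharacter H θ) (c : ℕ → ℤ)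
    (V : Finset ℕ) : ∀ ψ : H → ℂ, Cfsg.IsCharacter H ψ →
      ∃ z : ℤ, ∑ h, ψ h * ∏ M ∈ V, (θ h - c M) = (Nat.card H : ℂ) * z := by
  classical
  induction V using Finset.induction_on with
  | empty =>
    intro ψ hψ
    obtain ⟨k, hk⟩ := Char.IsCharacter.classInner_nat hψ Char.isCharacter_one
    refine ⟨k, ?_⟩
    rw [Char.classInner_fun_one_right, inv_mul_eq_iff_eq_mul₀ Char.card_ne_zero] at hk
    simpa using hk
  | @insert M V hM ih =>
    intro ψ hψ
    obtain ⟨z₁, hz₁⟩ := ih _ (Char.IsCharacter.mul hψ hθ)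
    obtain ⟨z₂, hz₂⟩ := ih ψ hψ
    refine ⟨z₁ - c M * z₂, ?_⟩
    calc ∑ h, ψ h * ∏ M' ∈ insert M V, (θ h - c M')
        = ∑ h, (ψ * θ) h * ∏ M' ∈ V, (θ h - c M')
          - (c M : ℂ) * ∑ h, ψ h * ∏ M' ∈ V, (θ h - c M') := by
          rw [Finset.mul_sum, ← Finset.sum_sub_distrib]
          refine Finset.sum_congr rfl fun h _ => ?_
          rw [Finset.prod_insert hM, Pi.mul_apply]
          ring
      _ = _ := by rw [hz₁, hz₂]; push_cast; ring

/-- **Schur's bound.** -/
theorem bound {p : ℕ} [hp : Fact p.Prime] (hH : IsPGroup p H) {θ : H → ℂ}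
    (hθ : Cfsg.IsCharacter H θ) (hfaith : ∀ h : H, θ h = θ 1 → h = 1) {n : ℕ} (hn : θ 1 = n)
    {r : ℕ} (hr : 0 < r) (hpr : ¬ p ∣ r)
    (hval : ∀ h, θ h ∈ IntermediateField.adjoin ℚ
      ({Complex.exp (2 * Real.pi * Complex.I / r)} : Set ℂ)) :
    (Nat.card H).factorization p ≤ ∑ i ∈ range (n + 1), n / ((p - 1) * p ^ i) := by
  classical
  haveI := Fintype.ofFinite H
  obtain ⟨m, ρ, rfl⟩ := hθ
  have hmn : m = n := by
    rw [Representation.char_one, Module.finrank_fin_fun] at hn
    exact_mod_cast hn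
  subst hmn
  set N := m / (p - 1) with hN
  have hp1 : 0 < p - 1 := Nat.sub_pos_of_lt hp.out.one_lt
  have hvan : ∀ h : H, h ≠ 1 →
      ∏ M ∈ Icc 1 N, (ρ.character h - ((m : ℤ) - (p : ℤ) * (M : ℤ) : ℤ)) = 0 := by
    intro h hh
    obtain ⟨k, hk⟩ := hH h
    obtain ⟨a, ha, ⟨b, hb⟩, hlow⟩ := value hr hpr (Complex.isPrimitiveRoot_exp r hr.ne') m ρ hval
      h k (by rw [pow_succ, pow_mul, hk, one_pow])
    have hne : a ≠ m := fun e => hh (hfaith h (by rw [ha, hn, e, Int.cast_natCast]))
    have hup : a ≤ m := by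
      have := (Complex.re_le_norm _).trans (Char.norm_char_le ρ h)
      rw [ha, Complex.intCast_re, Module.finrank_fin_fun] at this
      exact_mod_cast this
    have hp0 : (0 : ℤ) < p := by exact_mod_cast hp.out.pos
    have hb0 : 0 < b := by
      by_contra hb0
      have : (p : ℤ) * b ≤ 0 := mul_nonpos_of_nonneg_of_nonpos hp0.le (not_lt.1 hb0)
      omega
    have hbN : b.toNat ≤ N := by
      rw [hN, Nat.le_div_iff_mul_le hp1]
      have h1 : (p : ℤ) * (((p : ℤ) - 1) * b) ≤ p * m := by nlinarith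
      have h2 := le_of_mul_le_mul_left h1 hp0
      have h3 : ((b.toNat * (p - 1) : ℕ) : ℤ) ≤ m := by
        rw [Nat.cast_mul, Int.toNat_of_nonneg hb0.le, Nat.cast_sub hp.out.one_le, mul_comm]
        simpa using h2
      exact_mod_cast h3
    refine Finset.prod_eq_zero (i := b.toNat) (Finset.mem_Icc.2 ⟨by omega, hbN⟩) ?_
    rw [ha, Int.toNat_of_nonneg hb0.le, ← hb]
    push_cast
    ring
  obtain ⟨z, hz⟩ := exists_sum_eq ⟨m, ρ, rfl⟩ (fun M => (m : ℤ) - (p : ℤ) * M) (Icc 1 N)
    (fun _ => 1) Char.isCharacter_one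
  rw [Finset.sum_eq_single 1 (fun h _ hh => by rw [hvan h hh, mul_zero])
    (fun h => absurd (Finset.mem_univ _) h), one_mul, hn] at hz
  have hprod : ((∏ M ∈ Icc 1 N, p * M : ℕ) : ℂ) = ((Nat.card H : ℤ) * z : ℤ) := by
    rw [Int.cast_mul, Int.cast_natCast, ← hz, Nat.cast_prod]
    refine Finset.prod_congr rfl fun M _ => ?_
    push_cast
    ring
  have hdvd : Nat.card H ∣ p ^ N * N.factorial := by
    have h1 : ((∏ M ∈ Icc 1 N, p * M : ℕ) : ℤ) = (Nat.card H : ℤ) * z := by exact_mod_cast hprod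
    have h2 : Nat.card H ∣ ∏ M ∈ Icc 1 N, p * M := Int.natCast_dvd_natCast.1 ⟨z, h1⟩
    have hfac : ∀ k : ℕ, ∏ M ∈ Icc 1 k, M = k.factorial := fun k => by
      induction k with
      | zero => simp
      | succ k ih => rw [Finset.prod_Icc_succ_top (by omega), ih, Nat.factorial_succ, mul_comm]
    rw [Finset.prod_mul_distrib, Finset.prod_const, Nat.card_Icc, Nat.add_sub_cancel, hfac] at h2
    exact h2
  have h0 : p ^ N * N.factorial ≠ 0 :=
    Nat.mul_ne_zero (pow_ne_zero _ hp.out.ne_zero) N.factorial_ne_zero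
  have h1 := (Nat.factorization_le_iff_dvd Nat.card_pos.ne' h0).2 hdvd p
  rw [Nat.factorization_mul (pow_ne_zero _ hp.out.ne_zero) N.factorial_ne_zero, Finsupp.add_apply,
    hp.out.factorization_pow, Finsupp.single_eq_same] at h1
  refine h1.trans (le_of_eq ?_)
  have hlog : Nat.log p N < m + 1 :=
    lt_of_le_of_lt ((Nat.log_le_self p N).trans (Nat.div_le_self m _)) (Nat.lt_succ_self m)
  rw [Nat.factorization_def _ hp.out, padicValNat_factorial hlog, Finset.range_eq_Ico,
    Finset.sum_eq_sum_Ico_succ_bot (Nat.succ_pos m)]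
  simp only [pow_zero, mul_one, Nat.div_div_eq_div_mul, hN, zero_add]

end CfsgLib.NumberTheory.SchurBound
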