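import Cfsg.Agent.Lib.FrobRealize.FixedPointFree
import Cfsg.Agent.Lib.Coprime.Sylow
import Cfsg.Agent.Lib.Solvable.Cores
import Mathlib

/-!
# Groups in which all proper centralisers are maximal are solvable
-/

set_option autoImplicit false

namespace CfsgLib.NT.MaxCent

open Subgroup
open scoped Pointwise

variable {G : Type*} [Group G] [Finite G]

/-- A maximal normal subgroup that is solvable makes the group solvable. -/
theorem isSolvable_of_normal_coatom {C : Subgroup G} (hC : IsCoatom C) (hn : C.Normal)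
    (hs : Group.IsSolvable C) : Group.IsSolvable G := by
  have := hn
  have := hs
  have hq : Group.IsSolvable (G ⧸ C) := by
    have hsimp : ∀ H : Subgroup (G ⧸ C), H = ⊥ ∨ H = ⊤ := by
      intro H
      have hle : C ≤ H.comap (QuotientGroup.mk' C) := fun x hx => by
        rw [mem_comap, show QuotientGroup.mk' C x = 1 from (QuotientGroup.eq_one_iff x).2 hx]
        exact one_mem H
      rcases hC.le_iff.1 hle with h | h
      · refine Or.inr ?_
        rw [← map_comap_eq_self_of_surjective (QuotientGroup.mk'_surjective C) H, h,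
          map_top_of_surjective _ (QuotientGroup.mk'_surjective C)]
      · refine Or.inl ?_
        rw [← map_comap_eq_self_of_surjective (QuotientGroup.mk'_surjective C) H, h,
          QuotientGroup.map_mk'_self]
    have : IsCyclic (G ⧸ C) := by
      by_cases hne : ∀ x : G ⧸ C, x = 1
      · exact ⟨⟨1, fun x => ⟨0, by simp [hne x]⟩⟩⟩
      · obtain ⟨x, hx⟩ := not_forall.1 hne
        rcases hsimp (zpowers x) with h | h
        · exact absurd (mem_bot.1 (h ▸ mem_zpowers x)) hx
        · exact ⟨⟨x, fun y => mem_zpowers_iff.1 (show y ∈ zpowers x by rw [h]; exact mem_top y)⟩⟩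
    exact Group.isSolvable_of_comm fun a b => this.commGroup.mul_comm a b
  exact Group.isSolvable_of_ker_le_range C.subtype (QuotientGroup.mk' C)
    (by rw [QuotientGroup.ker_mk', range_subtype])

/-- An abelian maximal subgroup forces derived length at most three. -/
theorem derivedSeries_three_of_abelian_coatom {A : Subgroup G} (hA : IsCoatom A)
    (hc : ∀ a ∈ A, ∀ b ∈ A, a * b = b * a) : derivedSeries G 3 = ⊥ := by
  classical
  have hcc : ∀ H : Subgroup G, (∀ a ∈ H, ∀ b ∈ H, a * b = b * a) → ⁅H, H⁆ = (⊥ : Subgroup G) :=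
    fun H hH => (commutator_eq_bot_iff_le_centralizer).2 fun x hx =>
      mem_centralizer_iff.2 fun y hy => hH y hy x hx
  by_cases hn : A.Normal
  · have h1 : derivedSeries G 1 ≤ A := by
      rw [derivedSeries_one]
      have hq : ∀ a b : G ⧸ A, a * b = b * a := by
        have hsimp : ∀ H : Subgroup (G ⧸ A), H = ⊥ ∨ H = ⊤ := by
          intro H
          have hle : A ≤ H.comap (QuotientGroup.mk' A) := fun x hx => by
            rw [mem_comap, show QuotientGroup.mk' A x = 1 from (QuotientGroup.eq_one_iff x).2 hx]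
            exact one_mem H
          rcases hA.le_iff.1 hle with h | h
          · refine Or.inr ?_
            rw [← map_comap_eq_self_of_surjective (QuotientGroup.mk'_surjective A) H, h,
              map_top_of_surjective _ (QuotientGroup.mk'_surjective A)]
          · refine Or.inl ?_
            rw [← map_comap_eq_self_of_surjective (QuotientGroup.mk'_surjective A) H, h,
              QuotientGroup.map_mk'_self]
        intro a b
        rcases hsimp (zpowers a) with h | h
        · have ha1 : a = 1 := mem_bot.1 (h ▸ mem_zpowers a)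
          rw [ha1, one_mul, mul_one]
        · obtain ⟨k, rfl⟩ := mem_zpowers_iff.1 (show b ∈ zpowers a by rw [h]; exact mem_top b)
          exact ((Commute.refl a).zpow_right k).eq
      rw [_root_.commutator_def, Subgroup.commutator_le]
      intro x _ y _
      rw [← QuotientGroup.eq_one_iff, commutatorElement_def]
      simp only [QuotientGroup.mk_mul, QuotientGroup.mk_inv]
      rw [hq (x : G ⧸ A) y]
      group
    have h2 : derivedSeries G 2 = ⊥ := eq_bot_iff.2 (by
      rw [← hcc A hc]; exact commutator_mono h1 h1)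
    rw [derivedSeries_succ, h2]
    exact commutator_bot_left _
  by_cases hab : ∀ a b : G, a * b = b * a
  · have h1 : derivedSeries G 1 = ⊥ := by
      rw [derivedSeries_one, _root_.commutator_def]
      exact hcc ⊤ fun a _ b _ => hab a b
    rw [derivedSeries_succ, derivedSeries_succ, h1, commutator_bot_left, commutator_bot_left]
  have hN : normalizer (A : Set G) = A := by
    rcases hA.le_iff.1 (le_normalizer : A ≤ normalizer (A : Set G)) with h | h
    · exact absurd (normalizer_eq_top_iff.1 h) hn
    · exact h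
  have hZA : center G ≤ A := by
    rcases hA.le_iff.1 (le_sup_left : A ≤ A ⊔ center G) with h | h
    · refine absurd (fun a b => ?_) hab
      have hgen : ∀ a ∈ A ⊔ center G, ∀ b ∈ A ⊔ center G, a * b = b * a := by
        intro a ha b hb
        obtain ⟨a1, ha1, a2, ha2, rfl⟩ := mem_sup_of_normal_right.1 ha
        obtain ⟨b1, hb1, b2, hb2, rfl⟩ := mem_sup_of_normal_right.1 hb
        have e1 : Commute a1 b1 := hc a1 ha1 b1 hb1
        have e2 : Commute a1 b2 := mem_center_iff.1 hb2 a1
        have e3 : Commute a2 (b1 * b2) := (mem_center_iff.1 ha2 (b1 * b2)).symm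
        exact ((e1.mul_right e2).mul_left e3).eq
      exact hgen a (h ▸ mem_top a) b (h ▸ mem_top b)
    · exact h ▸ le_sup_right
  have hinter : ∀ g : G, g ∉ A → ∀ a ∈ A, g⁻¹ * a * g ∈ A → a ∈ center G := by
    intro g hg a ha hga
    have hle : A ⊔ A.map (MulAut.conj g).toMonoidHom ≤ centralizer ({a} : Set G) := by
      refine sup_le (fun b hb => mem_centralizer_singleton_iff.2 (hc b hb a ha)) ?_
      rintro _ ⟨b, hb, rfl⟩
      refine mem_centralizer_singleton_iff.2 ?_
      show g * b * g⁻¹ * a = a * (g * b * g⁻¹)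
      calc g * b * g⁻¹ * a = g * (b * (g⁻¹ * a * g)) * g⁻¹ := by group
        _ = g * ((g⁻¹ * a * g) * b) * g⁻¹ := by rw [hc b hb _ hga]
        _ = _ := by group
    rcases hA.le_iff.1 (le_sup_left : A ≤ A ⊔ A.map (MulAut.conj g).toMonoidHom) with h | h
    · exact mem_center_iff.2 fun b => mem_centralizer_singleton_iff.1 (hle (h ▸ mem_top b))
    · refine absurd ?_ hg
      rw [← hN, mem_normalizer_iff]
      have hmap : A.map (MulAut.conj g).toMonoidHom ≤ A := le_trans le_sup_right h.le
      have heq : A.map (MulAut.conj g).toMonoidHom = A :=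
        eq_of_le_of_card_ge hmap
          (card_map_of_injective (f := (MulAut.conj g).toMonoidHom) (MulAut.conj g).injective).ge
      intro b
      refine ⟨fun hb => heq.le ⟨b, hb, rfl⟩, fun hb => ?_⟩
      obtain ⟨c, hc', e⟩ := heq.ge hb
      exact (MulAut.conj g).injective e ▸ hc'
  by_cases hAZ : A = center G
  · exact absurd (hAZ ▸ inferInstance) hn
  let q := QuotientGroup.mk' (center G)
  have hq := QuotientGroup.mk'_surjective (center G)
  set B := A.map q with hB
  have hcomap : B.comap q = A := by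
    rw [hB, comap_map_eq, QuotientGroup.ker_mk', sup_eq_left.2 hZA]
  have hF : Cfsg.IsFrobeniusComplement B := by
    refine ⟨fun h => hAZ ?_, fun h => hA.1 ?_, fun y hy => ?_⟩
    · rw [← hcomap, h, MonoidHom.comap_bot, QuotientGroup.ker_mk']
    · rw [← hcomap, h, comap_top]
    · obtain ⟨g, rfl⟩ := hq y
      have hg : g ∉ A := fun h => hy (mem_map_of_mem q h)
      rw [eq_bot_iff]
      intro z hz
      obtain ⟨hz1, hz2⟩ := mem_inf.1 hz
      obtain ⟨a, ha, rfl⟩ := hz1
      rw [CfsgLib.FrobRealize.Kernel.mem_conj_smul] at hz2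
      have h1 : g⁻¹ * a * g ∈ A := by
        rw [← hcomap, mem_comap, map_mul, map_mul, map_inv]
        exact hz2
      exact (QuotientGroup.eq_one_iff a).2 (hinter g hg a ha h1)
  obtain ⟨N, hNn, hN1, hBN, hfpf, hcompl, -⟩ := CfsgLib.FrobRealize.FPF.exists_fpf_kernel hF
  have hBsol : Group.IsSolvable B := by
    refine Group.isSolvable_of_comm fun a b => Subtype.ext ?_
    obtain ⟨a', ha', e1⟩ := a.2
    obtain ⟨b', hb', e2⟩ := b.2
    show (a : G ⧸ center G) * b = b * a
    rw [← e1, ← e2, ← map_mul, ← map_mul, hc a' ha' b' hb']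
  obtain ⟨r, hr, hrd⟩ := Nat.exists_prime_and_dvd (n := Nat.card N)
    (fun h => hN1 (eq_bot_of_card_eq N h))
  have := Fact.mk hr
  obtain ⟨R, hR⟩ := CfsgLib.Coprime.exists_invariant_sylow hBN
    (CfsgLib.FrobRealize.FPF.coprime_card hBN hfpf) (Or.inl hBsol) r
  set R' := (R : Subgroup N).map N.subtype with hR'
  have hR'N : R' ≤ N := map_subtype_le _
  have hR'1 : R' ≠ ⊥ := by
    rw [← one_lt_card_iff_ne_bot, hR', CfsgLib.Coprime.card_map_subtype, R.card_eq_multiplicity]
    exact Nat.one_lt_pow (hr.factorization_pos_of_dvd Nat.card_pos.ne' hrd).ne' hr.one_lt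
  have hRN : N ≤ R' := by
    intro n hn'
    set M := R' ⊔ B with hM
    have hMtop : M = ⊤ := by
      by_contra hne
      have hBM : A ≤ M.comap q := hcomap ▸ comap_mono le_sup_right
      rcases hA.le_iff.1 hBM with h | h
      · exact hne (by rw [← map_comap_eq_self_of_surjective hq M, h, map_top_of_surjective _ hq])
      · have hMB : M = B := by rw [← map_comap_eq_self_of_surjective hq M, h, hB]
        refine hR'1 (eq_bot_iff.2 fun y hy => ?_)
        exact hcompl.disjoint.le_bot (mem_inf.2 ⟨hR'N hy, hMB ▸ (le_sup_left : R' ≤ M) hy⟩)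
    have h1 : n ∈ ((R' ⊔ B : Subgroup (G ⧸ center G)) : Set (G ⧸ center G)) := by
      rw [← hM, hMtop]; trivial
    rw [coe_mul_of_right_le_normalizer_left R' B hR] at h1
    obtain ⟨a, ha, b, hb, rfl⟩ := h1
    have hbN : b ∈ N := by simpa using mul_mem (inv_mem (hR'N ha)) hn'
    have hb1 : b = 1 := mem_bot.1 (hcompl.disjoint.le_bot (mem_inf.2 ⟨hbN, hb⟩))
    simpa [hb1] using ha
  -- the kernel is abelian, by maximality
  have hR : IsPGroup r N := (R.isPGroup'.map N.subtype).to_le hRN
  set N' : Subgroup (G ⧸ center G) := ⁅N, N⁆ with hN'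
  have := hNn
  have hN'n : N'.Normal := inferInstance
  have hN'le : N' ≤ N := commutator_le_left N N
  have hN'bot : N' = ⊥ := by
    by_contra hne
    have hnil := hR.isNilpotent
    have hlt : N' < N := by
      refine lt_of_le_of_ne hN'le fun e => ?_
      have hpow : ∀ k, derivedSeries N k = ⊤ := by
        intro k
        induction k with
        | zero => rfl
        | succ k ih =>
          rw [derivedSeries_succ, ih]
          apply (map_injective (f := N.subtype) N.subtype_injective)
          rw [map_commutator, ← MonoidHom.range_eq_map, range_subtype]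
          exact e
      obtain ⟨k, hk⟩ := (inferInstance : Group.IsSolvable N).solvable
      rw [hpow k] at hk
      refine hN1 (eq_bot_iff.2 fun x hx => ?_)
      have : (⟨x, hx⟩ : N) ∈ (⊥ : Subgroup N) := hk ▸ mem_top _
      exact mem_bot.2 (congrArg Subtype.val (mem_bot.1 this))
    set M := N' ⊔ B with hM
    have hBM : A ≤ M.comap q := hcomap ▸ comap_mono le_sup_right
    rcases hA.le_iff.1 hBM with h | h
    · have hMtop : M = ⊤ := by
        rw [← map_comap_eq_self_of_surjective hq M, h, map_top_of_surjective _ hq]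
      refine hlt.not_ge fun n hn' => ?_
      have h1 : n ∈ N' ⊔ B := hM ▸ hMtop ▸ mem_top n
      obtain ⟨a, ha, b, hb, rfl⟩ := mem_sup_of_normal_left.1 h1
      have hbN : b ∈ N := by simpa using mul_mem (inv_mem (hN'le ha)) hn'
      have hb1 : b = 1 := mem_bot.1 (hcompl.disjoint.le_bot (mem_inf.2 ⟨hbN, hb⟩))
      simpa [hb1] using ha
    · have hMB : M = B := by rw [← map_comap_eq_self_of_surjective hq M, h, hB]
      refine hne (eq_bot_iff.2 fun y hy => ?_)
      exact hcompl.disjoint.le_bot (mem_inf.2 ⟨hN'le hy, hMB ▸ (le_sup_left : N' ≤ M) hy⟩)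
  have hquot : ∀ a b : (G ⧸ center G) ⧸ N, a * b = b * a := by
    have hsurj : ∀ y : (G ⧸ center G) ⧸ N, ∃ b ∈ B, QuotientGroup.mk' N b = y := by
      intro y
      obtain ⟨y', rfl⟩ := QuotientGroup.mk'_surjective N y
      obtain ⟨⟨n, b⟩, hnb⟩ := (hcompl).2 y'
      refine ⟨b, b.2, ?_⟩
      rw [← hnb]
      show QuotientGroup.mk' N (b : G ⧸ center G) = QuotientGroup.mk' N ((n : G ⧸ center G) * b)
      rw [map_mul, show QuotientGroup.mk' N (n : G ⧸ center G) = 1 from
        (QuotientGroup.eq_one_iff _).2 n.2, one_mul]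
    intro a b
    obtain ⟨a', ha', rfl⟩ := hsurj a
    obtain ⟨b', hb', rfl⟩ := hsurj b
    obtain ⟨a'', ha'', rfl⟩ := ha'
    obtain ⟨b'', hb'', rfl⟩ := hb'
    rw [← map_mul, ← map_mul, ← map_mul, ← map_mul, hc a'' ha'' b'' hb'']
  have h1 : derivedSeries (G ⧸ center G) 1 ≤ N := by
    rw [derivedSeries_one, _root_.commutator_def, Subgroup.commutator_le]
    intro x _ y _
    rw [← QuotientGroup.eq_one_iff, commutatorElement_def]
    simp only [QuotientGroup.mk_mul, QuotientGroup.mk_inv]
    rw [hquot (x : (G ⧸ center G) ⧸ N) y]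
    group
  have h2 : derivedSeries (G ⧸ center G) 2 = ⊥ := eq_bot_iff.2 (by
    rw [← hN'bot]; exact commutator_mono h1 h1)
  have h3 : derivedSeries G 2 ≤ center G := by
    intro x hx
    have hx' : q x ∈ derivedSeries (G ⧸ center G) 2 :=
      map_derivedSeries_le_derivedSeries q 2 (mem_map_of_mem q hx)
    rw [h2, mem_bot] at hx'
    exact (QuotientGroup.eq_one_iff x).1 hx'
  refine eq_bot_iff.2 ?_
  rw [← hcc (center G) (fun a ha b hb => (mem_center_iff.1 hb a)), derivedSeries_succ]
  exact commutator_mono h3 h3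

/-- A maximal subgroup equal to its own centraliser makes the group solvable. -/
theorem isSolvable_of_abelian_coatom {A : Subgroup G} (hA : IsCoatom A)
    (hc : ∀ a ∈ A, ∀ b ∈ A, a * b = b * a) : Group.IsSolvable G :=
  ⟨⟨3, derivedSeries_three_of_abelian_coatom hA hc⟩⟩

/-- Split off the `p`-part of an element. -/
theorem exists_split {p : ℕ} [Fact p.Prime] (g : G) :
    ∃ i j : ℤ, g ^ i * g ^ j = g ∧ (∃ k, orderOf (g ^ i) ∣ p ^ k) ∧
      (orderOf (g ^ j)).Coprime p := by
  have hp : p.Prime := Fact.out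
  obtain ⟨k, m, hm, he⟩ := Nat.exists_eq_pow_mul_and_not_dvd (orderOf_pos g).ne' p hp.one_lt.ne'
  have hcop : Nat.gcd (p ^ k) m = 1 := Nat.Coprime.pow_left k (hp.coprime_iff_not_dvd.2 hm)
  have hz : ((1 : ℕ) : ℤ) = (p ^ k : ℕ) * Nat.gcdA (p ^ k) m + (m : ℤ) * Nat.gcdB (p ^ k) m := by
    rw [← hcop]; exact Nat.gcd_eq_gcd_ab _ _
  have hone : g ^ ((p ^ k * m : ℕ) : ℤ) = 1 := by rw [zpow_natCast, ← he, pow_orderOf_eq_one]
  refine ⟨(m : ℤ) * Nat.gcdB (p ^ k) m, (p ^ k : ℕ) * Nat.gcdA (p ^ k) m, ?_, ⟨k, ?_⟩, ?_⟩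
  · rw [← zpow_add, add_comm, ← hz, Nat.cast_one, zpow_one]
  · refine orderOf_dvd_of_pow_eq_one ?_
    rw [← zpow_natCast, ← zpow_mul, show (m : ℤ) * Nat.gcdB (p ^ k) m * ((p ^ k : ℕ) : ℤ) =
      ((p ^ k * m : ℕ) : ℤ) * Nat.gcdB (p ^ k) m by push_cast; ring, zpow_mul, hone, one_zpow]
  · refine Nat.Coprime.coprime_dvd_left (orderOf_dvd_of_pow_eq_one (n := m) ?_)
      (hp.coprime_iff_not_dvd.2 hm).symm
    rw [← zpow_natCast, ← zpow_mul, show ((p ^ k : ℕ) : ℤ) * Nat.gcdA (p ^ k) m * (m : ℤ) =
      ((p ^ k * m : ℕ) : ℤ) * Nat.gcdA (p ^ k) m by push_cast; ring, zpow_mul, hone, one_zpow]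

theorem centralizer_mul_eq
    (h : ∀ g : G, g ∉ center G → IsCoatom (centralizer ({g} : Set G))) {u y : G}
    (hcomm : Commute u y) (hcop : (orderOf u).Coprime (orderOf y)) (hu : u ∉ center G) :
    centralizer ({u * y} : Set G) = centralizer ({u} : Set G) := by
  obtain ⟨k, hk⟩ : ∃ k : ℕ, (u * y) ^ k = u := by
    obtain ⟨a, ha⟩ := exists_pow_eq_self_of_coprime (n := orderOf y) (x := u) hcop.symm
    refine ⟨orderOf y * a, ?_⟩
    rw [pow_mul, hcomm.mul_pow, pow_orderOf_eq_one, mul_one, ha]
  have hle : centralizer ({u * y} : Set G) ≤ centralizer ({u} : Set G) := by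
    intro g hg
    rw [mem_centralizer_singleton_iff] at hg ⊢
    rw [← hk]
    exact ((show Commute g (u * y) from hg).pow_right k).eq
  have huy : u * y ∉ center G := fun hz => hu (hk ▸ pow_mem hz k)
  rcases (h _ huy).le_iff.1 hle with e | e
  · refine absurd (mem_center_iff.2 fun g => ?_) hu
    exact mem_centralizer_singleton_iff.1 (e ▸ mem_top g)
  · exact e.symm

theorem centralizer_eq_of_coprime
    (h : ∀ g : G, g ∉ center G → IsCoatom (centralizer ({g} : Set G))) {u y : G}
    (hcomm : Commute u y) (hcop : (orderOf u).Coprime (orderOf y)) (hu : u ∉ center G)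
    (hy : y ∉ center G) : centralizer ({y} : Set G) = centralizer ({u} : Set G) := by
  rw [← centralizer_mul_eq h hcomm hcop hu, hcomm.eq, centralizer_mul_eq h hcomm.symm hcop.symm hy]

/-- The main statement. -/
theorem isSolvable (h : ∀ g : G, g ∉ center G → IsCoatom (centralizer ({g} : Set G))) :
    Group.IsSolvable G := by
  classical
  by_cases hAb : ∃ g : G, g ∉ center G ∧
      ∀ a ∈ centralizer ({g} : Set G), ∀ b ∈ centralizer ({g} : Set G), a * b = b * a
  · obtain ⟨g, hg, hc⟩ := hAb
    exact isSolvable_of_abelian_coatom (h g hg) hc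
  have hnab : ∀ g : G, g ∉ center G →
      ¬ ∀ a ∈ centralizer ({g} : Set G), ∀ b ∈ centralizer ({g} : Set G), a * b = b * a :=
    fun g hg hc => hAb ⟨g, hg, hc⟩
  -- elements of coprime orders do not commute outside the centre
  have heppo : ∀ (p : ℕ) [Fact p.Prime] (u y : G), u ∉ center G → (∃ k, orderOf u ∣ p ^ k) →
      (orderOf y).Coprime p → Commute u y → y ∈ center G := by
    intro p _ u y hu ⟨k, hk⟩ hy hcomm
    by_contra hyc
    have hcu : ∀ (a b : G), (∃ k, orderOf a ∣ p ^ k) → (orderOf b).Coprime p →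
        (orderOf a).Coprime (orderOf b) := fun a b ⟨j, hj⟩ hb =>
      Nat.Coprime.coprime_dvd_left hj (Nat.Coprime.pow_left j hb.symm)
    have hC := centralizer_eq_of_coprime h hcomm (hcu u y ⟨k, hk⟩ hy) hu hyc
    refine hnab u hu ?_
    suffices hz : ∀ a ∈ centralizer ({u} : Set G), ∀ b ∈ centralizer ({u} : Set G), Commute a b from
      fun a ha b hb => (hz a ha b hb).eq
    intro a ha
    obtain ⟨i, j, hij, hpi, hpj⟩ := exists_split (p := p) a
    have key : ∀ c : G, c ∈ centralizer ({u} : Set G) →
        (((∃ k, orderOf c ∣ p ^ k)) ∨ (orderOf c).Coprime p) →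
        ∀ b ∈ centralizer ({u} : Set G), Commute c b := by
      intro c hc hor b hb
      by_cases hcc : c ∈ center G
      · exact (mem_center_iff.1 hcc b).symm
      have hceq : centralizer ({c} : Set G) = centralizer ({u} : Set G) := by
        rcases hor with hp | hp
        · rw [← hC]
          have hcy : Commute c y := by
            have := mem_centralizer_singleton_iff.1 (hC.symm ▸ hc : c ∈ centralizer ({y} : Set G))
            exact this
          exact (centralizer_eq_of_coprime h hcy (hcu c y hp hy) hcc hyc).symm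
        · exact centralizer_eq_of_coprime h (mem_centralizer_singleton_iff.1 hc :
            Commute c u).symm (hcu u c ⟨k, hk⟩ hp) hu hcc
      exact (show Commute b c from mem_centralizer_singleton_iff.1 (hceq.symm ▸ hb)).symm
    intro b hb
    rw [← hij]
    exact (key _ (zpow_mem ha i) (Or.inl hpi) b hb).mul_left
      (key _ (zpow_mem ha j) (Or.inr hpj) b hb)
  -- centralisers of noncentral prime power elements are solvable
  have hsol : ∀ (p : ℕ) [Fact p.Prime] (u : G), u ∉ center G → (∃ k, orderOf u ∣ p ^ k) →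
      Group.IsSolvable (centralizer ({u} : Set G)) ∧
        ∀ S : Sylow p (centralizer ({u} : Set G)),
          centralizer ({u} : Set G) = (S : Subgroup _).map (centralizer ({u} : Set G)).subtype ⊔
            center G := by
    intro p _ u hu hk
    set C := centralizer ({u} : Set G) with hC
    have hZC : center G ≤ C := center_le_centralizer _
    have hq : IsPGroup p (C ⧸ (center G).subgroupOf C) := by
      intro x
      obtain ⟨c, rfl⟩ := QuotientGroup.mk_surjective x
      obtain ⟨i, j, hij, ⟨k, hpi⟩, hpj⟩ := exists_split (p := p) (c : G)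
      refine ⟨k, ?_⟩
      rw [← QuotientGroup.mk_pow, QuotientGroup.eq_one_iff, mem_subgroupOf]
      have hjc : (c : G) ^ j ∈ center G := heppo p u _ hu hk hpj
        (show Commute ((c : G) ^ j) u from
          mem_centralizer_singleton_iff.1 (zpow_mem c.2 j)).symm
      show (c : G) ^ p ^ k ∈ center G
      rw [← hij, ((Commute.refl (c : G)).zpow_zpow i j).mul_pow, orderOf_dvd_iff_pow_eq_one.1 hpi,
        one_mul]
      exact pow_mem hjc _
    have hZs : Group.IsSolvable ((center G).subgroupOf C) :=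
      Group.isSolvable_of_comm fun a b => Subtype.ext (Subtype.ext
        (mem_center_iff.1 b.2 (a : G)))
    refine ⟨?_, fun S => ?_⟩
    · have := hq.isNilpotent
      exact Group.isSolvable_of_ker_le_range ((center G).subgroupOf C).subtype
        (QuotientGroup.mk' ((center G).subgroupOf C)) (by rw [QuotientGroup.ker_mk', range_subtype])
    · refine le_antisymm (fun g hg => ?_) (sup_le (map_subtype_le _) hZC)
      have hn : ((center G).subgroupOf C).Normal := inferInstance
      have hcov : (S : Subgroup C) ⊔ (center G).subgroupOf C = ⊤ := by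
        have hmap := (S.mapSurjective (QuotientGroup.mk'_surjective ((center G).subgroupOf C)))
        have htop : ((S.mapSurjective (QuotientGroup.mk'_surjective ((center G).subgroupOf C))) :
            Subgroup (C ⧸ (center G).subgroupOf C)) = ⊤ :=
          ((S.mapSurjective (QuotientGroup.mk'_surjective ((center G).subgroupOf C))).is_maximal'
            (hq.to_subgroup ⊤) le_top).symm
        rw [Sylow.coe_mapSurjective] at htop
        rw [← comap_top (QuotientGroup.mk' ((center G).subgroupOf C)), ← htop, comap_map_eq,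
          QuotientGroup.ker_mk']
      have hg' : (⟨g, hg⟩ : C) ∈ (S : Subgroup C) ⊔ (center G).subgroupOf C := hcov ▸ mem_top _
      obtain ⟨s, hs, z, hz, e⟩ := mem_sup_of_normal_right.1 hg'
      rw [show g = (s : G) * (z : G) from (congrArg Subtype.val e).symm]
      exact mul_mem_sup (mem_map_of_mem _ hs) hz
  -- either some centraliser is normal, or they are self-normalising Sylow subgroups times `Z`
  by_cases hnorm : ∃ (p : ℕ) (_ : Fact p.Prime) (u : G), u ∉ center G ∧
      (∃ k, orderOf u ∣ p ^ k) ∧ (centralizer ({u} : Set G)).Normal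
  · obtain ⟨p, hp, u, hu, hk, hn⟩ := hnorm
    exact isSolvable_of_normal_coatom (h u hu) hn (hsol p u hu hk).1
  have hstr : ∀ (p : ℕ) [Fact p.Prime] (u : G), u ∉ center G → (∃ k, orderOf u ∣ p ^ k) →
      ∃ P : Sylow p G, u ∈ (P : Subgroup G) ∧
        centralizer ({u} : Set G) = (P : Subgroup G) ⊔ center G ∧
        normalizer ((P : Subgroup G) : Set G) = (P : Subgroup G) ⊔ center G := by
    intro p hp u hu hk
    set C := centralizer ({u} : Set G) with hC
    have hnn : ¬ C.Normal := fun hn => hnorm ⟨p, hp, u, hu, hk, hn⟩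
    obtain ⟨S⟩ := (inferInstance : Nonempty (Sylow p C))
    have hCS : C = (S : Subgroup C).map C.subtype ⊔ center G := (hsol p u hu hk).2 S
    set S' := (S : Subgroup C).map C.subtype with hS'
    have hS'p : IsPGroup p S' := S.isPGroup'.map _
    have hNle : normalizer (S' : Set G) ≤ C := by
      have hle : C ≤ normalizer (S' : Set G) := by
        rw [hCS]
        refine sup_le le_normalizer fun z hz => mem_normalizer_iff.2 fun a => ?_
        rw [show z * a * z⁻¹ = a by rw [← mem_center_iff.1 hz a, mul_inv_cancel_right]]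
      rcases (h u hu).le_iff.1 hle with e | e
      · exfalso
        have := normalizer_eq_top_iff.1 e
        refine hnn ?_
        rw [hCS]
        exact Subgroup.sup_normal S' (center G)
      · exact e.le
    obtain ⟨P, hP⟩ := hS'p.exists_le_sylow
    have hPS : (P : Subgroup G) = S' := by
      rcases hP.eq_or_lt with e | e
      · exact e.symm
      · exfalso
        have h1 := CfsgLib.Coprime.lt_normalizer_inf_of_lt P.isPGroup' e
        refine h1.not_ge ?_
        have h2 : (P : Subgroup G) ⊓ normalizer (S' : Set G) ≤ C := inf_le_right.trans hNle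
        have h3 : IsPGroup p (((P : Subgroup G) ⊓ normalizer (S' : Set G)).subgroupOf C) :=
          (P.isPGroup'.to_le inf_le_left).of_equiv (subgroupOfEquivOfLe h2).symm
        have h4 : (S : Subgroup C) ≤
            ((P : Subgroup G) ⊓ normalizer (S' : Set G)).subgroupOf C := fun s hs =>
          mem_subgroupOf.2 (mem_inf.2 ⟨hP (mem_map_of_mem _ hs),
            le_normalizer (mem_map_of_mem _ hs)⟩)
        have h5 := S.is_maximal' h3 h4
        intro x hx
        exact ⟨⟨x, h2 hx⟩, h5 ▸ (mem_subgroupOf.2 hx), rfl⟩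
    have hN : normalizer ((P : Subgroup G) : Set G) = (P : Subgroup G) ⊔ center G := by
      rw [hPS, ← hCS]
      refine le_antisymm hNle ?_
      rw [hCS]
      refine sup_le le_normalizer fun z hz => mem_normalizer_iff.2 fun a => ?_
      rw [show z * a * z⁻¹ = a by rw [← mem_center_iff.1 hz a, mul_inv_cancel_right]]
    refine ⟨P, ?_, hPS ▸ hCS, hN⟩
    rw [hPS]
    have huC : u ∈ C := mem_centralizer_singleton_iff.2 rfl
    have hz : IsPGroup p (zpowers (⟨u, huC⟩ : C)) := by
      obtain ⟨k, hk⟩ := hk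
      exact IsPGroup.of_card_dvd_pow (n := k) (by rwa [Nat.card_zpowers, Subgroup.orderOf_mk])
    obtain ⟨S₂, hS₂⟩ := hz.exists_le_sylow
    obtain ⟨c, hc⟩ := MulAction.exists_smul_eq C S₂ S
    have hmem : (c • (⟨u, huC⟩ : C) : C) = ⟨u, huC⟩ → (⟨u, huC⟩ : C) ∈ (S : Subgroup C) :=
      fun _ => by
        rw [← hc, Sylow.coe_subgroup_smul, mem_pointwise_smul_iff_inv_smul_mem, ← map_inv,
          MulAut.smul_def, MulAut.conj_apply, inv_inv]
        have : c⁻¹ * ⟨u, huC⟩ * c = (⟨u, huC⟩ : C) := Subtype.ext (by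
          show (c : G)⁻¹ * u * c = u
          rw [mul_assoc, ← mem_centralizer_singleton_iff.1 c.2, inv_mul_cancel_left])
        rw [this]
        exact hS₂ (mem_zpowers _)
    refine ⟨⟨u, huC⟩, ?_, rfl⟩
    rw [← hc, Sylow.coe_subgroup_smul, SetLike.mem_coe, mem_pointwise_smul_iff_inv_smul_mem,
      ← map_inv, MulAut.smul_def, MulAut.conj_apply, inv_inv]
    have : c⁻¹ * ⟨u, huC⟩ * c = (⟨u, huC⟩ : C) := Subtype.ext (by
      show (c : G)⁻¹ * u * c = u
      rw [mul_assoc, ← mem_centralizer_singleton_iff.1 c.2, inv_mul_cancel_left])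
    rw [this]
    exact hS₂ (mem_zpowers _)
  -- choose a prime
  by_cases hone : ∀ (p q : ℕ) [Fact p.Prime] [Fact q.Prime] (u v : G), u ∉ center G →
      v ∉ center G → (∃ k, orderOf u ∣ p ^ k) → (∃ k, orderOf v ∣ q ^ k) → p = q
  · by_cases hc : ∀ g : G, g ∈ center G
    · exact Group.isSolvable_of_comm fun a b => mem_center_iff.1 (hc b) a
    obtain ⟨g, hg⟩ := not_forall.1 hc
    have hex : ∀ (n : ℕ) (g : G), orderOf g = n → g ∉ center G →
        ∃ (p : ℕ) (_ : Fact p.Prime) (u : G), u ∉ center G ∧ ∃ k, orderOf u ∣ p ^ k := by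
      intro n
      induction n using Nat.strong_induction_on with
      | _ n ih =>
        intro g hn hg
        have hn1 : n ≠ 1 := fun e => hg (by
          rw [orderOf_eq_one_iff.1 (hn.trans e)]; exact one_mem _)
        obtain ⟨p, hp, hpn⟩ := Nat.exists_prime_and_dvd hn1
        have := Fact.mk hp
        obtain ⟨i, j, hij, hpi, hpj⟩ := exists_split (p := p) g
        by_cases hi : g ^ i ∈ center G
        · refine ih (orderOf (g ^ j)) ?_ (g ^ j) rfl fun hj => hg (hij ▸ mul_mem hi hj)
          rw [← hn] at hpn ⊢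
          refine lt_of_le_of_ne (Nat.le_of_dvd (orderOf_pos g)
            (orderOf_dvd_of_pow_eq_one (by rw [← zpow_natCast, ← zpow_mul, mul_comm, zpow_mul,
              zpow_natCast, pow_orderOf_eq_one, one_zpow]))) fun e => ?_
          rw [e] at hpj
          exact (Nat.Prime.coprime_iff_not_dvd hp).1 hpj.symm hpn
        · exact ⟨p, this, _, hi, hpi⟩
    obtain ⟨p, hp, u, hu, hk⟩ := hex _ g rfl hg
    have hq : IsPGroup p (G ⧸ center G) := by
      intro x
      obtain ⟨c, rfl⟩ := QuotientGroup.mk_surjective x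
      obtain ⟨i, j, hij, ⟨k, hpi⟩, hpj⟩ := exists_split (p := p) c
      refine ⟨k, ?_⟩
      rw [← QuotientGroup.mk_pow, QuotientGroup.eq_one_iff, ← hij,
        ((Commute.refl c).zpow_zpow i j).mul_pow, orderOf_dvd_iff_pow_eq_one.1 hpi, one_mul]
      refine pow_mem ?_ _
      by_contra hj
      obtain ⟨q, hq, v, hv, l, hl⟩ := hex _ _ rfl hj
      have := hone p q u v hu hv hk ⟨l, hl⟩
      subst this
      -- the prime-to-`p` part is generated by prime-to-`p` powers
      have hall : ∀ (n : ℕ) (w : G), orderOf w = n → n.Coprime p → w ∈ center G := by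
        intro n
        induction n using Nat.strong_induction_on with
        | _ n ih =>
          intro w hn hcop
          by_contra hw
          have hn1 : n ≠ 1 := fun e => hw (by
            rw [orderOf_eq_one_iff.1 (hn.trans e)]; exact one_mem _)
          obtain ⟨r, hr, hrn⟩ := Nat.exists_prime_and_dvd hn1
          have := Fact.mk hr
          obtain ⟨i', j', hij', hpi', hpj'⟩ := exists_split (p := r) w
          have hdvd : ∀ t : ℤ, orderOf (w ^ t) ∣ n := fun t => hn ▸
            orderOf_dvd_of_pow_eq_one (by rw [← zpow_natCast, ← zpow_mul, mul_comm, zpow_mul,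
              zpow_natCast, pow_orderOf_eq_one, one_zpow])
          have hj' : w ^ j' ∈ center G := by
            refine ih _ (lt_of_le_of_ne (Nat.le_of_dvd (hn ▸ orderOf_pos w) (hdvd j')) fun e => ?_)
              _ rfl (hcop.coprime_dvd_left (hdvd j'))
            rw [e] at hpj'
            exact (Nat.Prime.coprime_iff_not_dvd hr).1 hpj'.symm hrn
          have hi' : w ^ i' ∉ center G := fun hh => hw (hij' ▸ mul_mem hh hj')
          have hrp := hone r p (w ^ i') u hi' hu hpi' hk
          subst hrp
          exact (Nat.Prime.coprime_iff_not_dvd hr).1 hcop.symm hrn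
      exact hj (hall _ _ rfl hpj)
    have := hq.isNilpotent
    have : Group.IsSolvable (center G) := Group.isSolvable_of_comm fun a b => mul_comm' a b
    exact Group.isSolvable_of_ker_le_range (center G).subtype (QuotientGroup.mk' (center G))
      (by rw [QuotientGroup.ker_mk', range_subtype])
  simp only [not_forall] at hone
  obtain ⟨p, q, hp, hq, u, v, hu, hv, hku, hkv, hpq⟩ := hone
  exfalso
  -- one of the cores is central
  wlog hcore : Cfsg.pCore p G ≤ center G generalizing p q u v
  · refine this q p hq hp v u hv hu hkv hku (Ne.symm hpq) ?_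
    intro e he
    by_contra hec
    obtain ⟨d, hd, hdc⟩ := SetLike.not_le_iff_exists.1 hcore
    have hdp : ∃ k, orderOf d ∣ p ^ k := by
      obtain ⟨k, hk⟩ := IsPGroup.iff_orderOf.1 (CfsgLib.Solvable.Cores.isPGroup_pCore (G := G) p) ⟨d, hd⟩
      exact ⟨k, by rw [← Subgroup.orderOf_mk d hd, hk]⟩
    obtain ⟨l, hl⟩ := IsPGroup.iff_orderOf.1 (CfsgLib.Solvable.Cores.isPGroup_pCore (G := G) q) ⟨e, he⟩
    rw [Subgroup.orderOf_mk] at hl
    have hcop : (orderOf e).Coprime p := hl ▸ Nat.Coprime.pow_left l
      ((Nat.coprime_primes hq.out hp.out).2 (Ne.symm hpq))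
    refine hec (heppo p d e hdc hdp hcop ?_)
    refine commute_of_normal_of_disjoint _ _ inferInstance inferInstance ?_ d e hd he
    exact IsPGroup.disjoint_of_ne p q hpq _ _ (CfsgLib.Solvable.Cores.isPGroup_pCore (G := G) p)
      (CfsgLib.Solvable.Cores.isPGroup_pCore (G := G) q)
  obtain ⟨P, huP, hCu, hNP⟩ := hstr p u hu hku
  have hPnc : ¬ ∀ a b : P, a * b = b * a := by
    intro hc
    refine hnab u hu fun a ha b hb => ?_
    rw [hCu] at ha hb
    obtain ⟨a1, ha1, a2, ha2, rfl⟩ := mem_sup_of_normal_right.1 ha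
    obtain ⟨b1, hb1, b2, hb2, rfl⟩ := mem_sup_of_normal_right.1 hb
    have e1 : Commute a1 b1 := congrArg Subtype.val (hc ⟨a1, ha1⟩ ⟨b1, hb1⟩)
    exact ((e1.mul_right (mem_center_iff.1 hb2 a1)).mul_left
      ((mem_center_iff.1 ha2 (b1 * b2)).symm)).eq
  obtain ⟨y, hy, hyc⟩ : ∃ y : P, (∀ g : P, g * y * g⁻¹ * y⁻¹ ∈ center P) ∧ y ∉ center P := by
    have : Nontrivial (P ⧸ center P) := by
      rw [QuotientGroup.nontrivial_iff, Ne, Subgroup.eq_top_iff']
      exact fun hh => hPnc fun a b => mem_center_iff.1 (hh b) a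
    have := (P.isPGroup'.to_quotient (center P)).center_nontrivial
    obtain ⟨⟨c, hc⟩, hc1⟩ := exists_ne (1 : center (P ⧸ center P))
    obtain ⟨y, rfl⟩ := QuotientGroup.mk_surjective c
    refine ⟨y, fun g => ?_, fun hh => hc1 (Subtype.ext ((QuotientGroup.eq_one_iff y).2 hh))⟩
    rw [← QuotientGroup.eq_one_iff]
    simp only [QuotientGroup.mk_mul, QuotientGroup.mk_inv]
    rw [mem_center_iff.1 hc (g : P ⧸ center P)]
    group
  have hynC : (y : G) ∉ center G := fun hh => hyc (mem_center_iff.2 fun g =>
    Subtype.ext (mem_center_iff.1 hh (g : G)))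
  have hpy : ∃ k, orderOf (y : G) ∣ p ^ k := by
    obtain ⟨k, hk⟩ := IsPGroup.iff_orderOf.1 P.isPGroup' y
    exact ⟨k, by rw [Subgroup.orderOf_coe, hk]⟩
  obtain ⟨P', hyP', hCy, -⟩ := hstr p (y : G) hynC hpy
  set D := (P : Subgroup G) ⊓ centralizer ({(y : G)} : Set G) with hD
  have hPD : (P : Subgroup G) ≤ normalizer (D : Set G) := by
    have hconj : ∀ g ∈ (P : Subgroup G), ∀ c ∈ D, g * c * g⁻¹ ∈ D := by
      intro g hg c hc
      obtain ⟨hcP, hcy⟩ := mem_inf.1 hc
      refine mem_inf.2 ⟨mul_mem (mul_mem hg hcP) (inv_mem hg), mem_centralizer_singleton_iff.2 ?_⟩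
      set z : G := (((⟨g, hg⟩ : P)⁻¹ * y * (⟨g, hg⟩ : P) * y⁻¹ : P) : G) with hz
      have hzc : Commute c z := by
        have h1 := hy (⟨g, hg⟩ : P)⁻¹
        rw [inv_inv] at h1
        exact congrArg Subtype.val (mem_center_iff.1 h1 ⟨c, hcP⟩)
      have hgy : g⁻¹ * (y : G) * g = z * y := by
        rw [hz]; simp [mul_assoc]
      have hcy' : Commute c (z * y) := hzc.mul_right (mem_centralizer_singleton_iff.1 hcy)
      calc g * c * g⁻¹ * (y : G) = g * (c * (g⁻¹ * (y : G) * g)) * g⁻¹ := by group
        _ = g * ((g⁻¹ * (y : G) * g) * c) * g⁻¹ := by rw [hgy, hcy'.eq]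
        _ = _ := by group
    intro g hg
    rw [mem_normalizer_iff]
    intro c
    refine ⟨fun hc => hconj g hg c hc, fun hc => ?_⟩
    have := hconj g⁻¹ (inv_mem hg) _ hc
    simpa [mul_assoc] using this
  have huD : u ∈ D := mem_inf.2 ⟨huP, mem_centralizer_singleton_iff.2 (by
    have : (y : G) ∈ centralizer ({u} : Set G) := hCu ▸ mem_sup_left y.2
    exact (mem_centralizer_singleton_iff.1 this).symm)⟩
  have hDP' : D ≤ (P' : Subgroup G) := by
    intro c hc
    obtain ⟨hcP, hcy⟩ := mem_inf.1 hc
    rw [hCy] at hcy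
    obtain ⟨a, ha, z, hz, rfl⟩ := mem_sup_of_normal_right.1 hcy
    have hzP : z ∈ normalizer ((P' : Subgroup G) : Set G) := mem_normalizer_iff.2 fun b => by
      rw [show z * b * z⁻¹ = b by rw [← mem_center_iff.1 hz b, mul_inv_cancel_right]]
    have hmem : a * z ∈ normalizer ((P' : Subgroup G) : Set G) := mul_mem (le_normalizer ha) hzP
    have hp' : IsPGroup p (zpowers (a * z)) := P.isPGroup'.to_le (zpowers_le.2 hcP)
    have h2 : a * z ∈ zpowers (a * z) ⊓ normalizer (P' : Set G) :=
      mem_inf.2 ⟨mem_zpowers _, hmem⟩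
    rw [hp'.inf_normalizer_sylow P'] at h2
    exact (mem_inf.1 h2).2
  have hND : normalizer (D : Set G) = (P : Subgroup G) ⊔ center G := by
    have hle : (P : Subgroup G) ⊔ center G ≤ normalizer (D : Set G) :=
      sup_le hPD fun z hz => mem_normalizer_iff.2 fun b => by
        rw [show z * b * z⁻¹ = b by rw [← mem_center_iff.1 hz b, mul_inv_cancel_right]]
    rw [← hCu] at hle ⊢
    rcases (h u hu).le_iff.1 hle with e | e
    · have := normalizer_eq_top_iff.1 e
      exact absurd (hcore (CfsgLib.Solvable.Cores.le_pCore (P.isPGroup'.to_le inf_le_left) huD)) hu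
    · exact e
  have hDeq : D = (P' : Subgroup G) := by
    rcases hDP'.eq_or_lt with e | e
    · exact e
    · exfalso
      have h1 := CfsgLib.Coprime.lt_normalizer_inf_of_lt P'.isPGroup' e
      refine h1.not_ge ?_
      intro c hc
      obtain ⟨hc', hcN⟩ := mem_inf.1 hc
      refine mem_inf.2 ⟨?_, hCy ▸ mem_sup_left hc'⟩
      rw [hND, ← hNP] at hcN
      have h2 : c ∈ (P' : Subgroup G) ⊓ normalizer (P : Set G) := mem_inf.2 ⟨hc', hcN⟩
      rw [P'.isPGroup'.inf_normalizer_sylow P] at h2
      exact (mem_inf.1 h2).2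
  have hPP' : (P : Subgroup G) = P' :=
    P'.is_maximal' P.isPGroup' (hDeq ▸ inf_le_left)
  refine hyc (mem_center_iff.2 fun g => Subtype.ext ?_)
  have hgC : (g : G) ∈ centralizer ({(y : G)} : Set G) := hCy ▸ mem_sup_left (hPP' ▸ g.2)
  exact mem_centralizer_singleton_iff.1 hgC

end CfsgLib.NT.MaxCent
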