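import Cfsg.Prelude.Def_CaseTheorems
import Cfsg.Agent.Lib.PGroup.SubgroupCount
import Cfsg.Agent.Lib.Solvable.FrattiniFitting
import Mathlib

/-!
Two commuting non-abelian subgroups with centres of order two in a 2-group of sectional rank at most four.
-/

set_option autoImplicit false

namespace CfsgLib.NumberTheory.SectionalRankFour

open Subgroup

variable {S : Type*} [Group S] [Finite S]

/-- A non-abelian subgroup whose centre consists of `1` and `z`. -/
structure Bad (P : Subgroup S) (z : S) : Prop where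
  mem : z ∈ P
  ne_one : z ≠ 1
  comm : ∀ x ∈ P, x * z = z * x
  center : ∀ y ∈ P, (∀ x ∈ P, x * y = y * x) → y = 1 ∨ y = z
  nonab : ¬ ∀ x ∈ P, ∀ y ∈ P, x * y = y * x

theorem Bad.conj {P : Subgroup S} {z : S} (h : Bad P z) (g : S) :
    Bad (P.map (MulAut.conj g).toMonoidHom) (g * z * g⁻¹) := by
  have hc : ∀ a b : S, MulAut.conj g (a * b) = MulAut.conj g a * MulAut.conj g b := map_mul _
  refine ⟨⟨z, h.mem, rfl⟩, fun e => h.ne_one (conj_eq_one_iff.mp e), ?_, ?_, ?_⟩
  · rintro _ ⟨x, hx, rfl⟩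
    exact ((hc x z).symm.trans (congrArg _ (h.comm x hx))).trans (hc z x)
  · rintro _ ⟨y, hy, rfl⟩ hcomm
    rcases h.center y hy (fun x hx => (MulAut.conj g).injective
      (((hc x y).trans (hcomm _ ⟨x, hx, rfl⟩)).trans (hc y x).symm)) with rfl | rfl
    · exact Or.inl (map_one _)
    · exact Or.inr rfl
  · intro hab
    exact h.nonab fun x hx y hy => (MulAut.conj g).injective
      (((hc x y).trans (hab _ ⟨x, hx, rfl⟩ _ ⟨y, hy, rfl⟩)).trans (hc y x).symm)

/-- An element normalising `P` fixes `z`. -/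
theorem Bad.fix {P : Subgroup S} {z : S} (h : Bad P z) {g : S} (hg : g ∈ normalizer (P : Set S)) :
    g * z * g⁻¹ = z := by
  have hb := h.conj g
  rw [show P.map (MulAut.conj g).toMonoidHom = P from mem_normalizer_iff_map_conj_eq.mp hg] at hb
  rcases h.center _ hb.mem hb.comm with e | e
  · exact absurd e hb.ne_one
  · exact e

theorem Bad.not_cyclic {P : Subgroup S} {z : S} (h : Bad P z) : ¬ IsCyclic P := fun hc =>
  h.nonab fun x hx y hy => congrArg Subtype.val
    ((hc.isMulCommutative).is_comm.comm (⟨x, hx⟩ : P) ⟨y, hy⟩)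

theorem Bad.center_le_frattini (h2 : IsPGroup 2 S) {P : Subgroup S} {z : S} (h : Bad P z)
    (y : P) (hy : ∀ x : P, x * y = y * x) : y ∈ frattini P := by
  haveI : Fact (Nat.Prime 2) := ⟨Nat.prime_two⟩
  have hP := h2.to_subgroup P
  haveI := hP.isNilpotent
  rcases h.center y y.2 (fun x hx => congrArg Subtype.val (hy ⟨x, hx⟩)) with e | e
  · rw [show y = 1 from Subtype.ext e]; exact one_mem _
  have hne : frattini P ≠ ⊥ := fun hbot => h.nonab fun a ha b hb => by
    have hm := CfsgLib.PGroup.Frattini.commutatorElement_mem_frattini hP (⟨a, ha⟩ : P) ⟨b, hb⟩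
    rw [hbot, mem_bot, commutatorElement_eq_one_iff_mul_comm] at hm
    exact congrArg Subtype.val hm
  obtain ⟨⟨c, hc⟩, hc1⟩ := ne_bot_iff_exists_ne_one.1
    (CfsgLib.Solvable.FrattiniFitting.inf_center_ne_bot (frattini P) hne)
  have hcc := (Subgroup.mem_inf.mp hc).2
  rcases h.center c c.2 (fun x hx => congrArg Subtype.val (mem_center_iff.mp hcc ⟨x, hx⟩)) with e' | e'
  · exact absurd (Subtype.ext (Subtype.ext e')) hc1
  · rw [show y = c from Subtype.ext (e.trans e'.symm)]; exact (Subgroup.mem_inf.mp hc).1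

/-- Two mutually normalising subgroups with different `z` commute and meet trivially. -/
theorem pair {P Q : Subgroup S} {z w : S} (h2 : IsPGroup 2 S) (hP : Bad P z) (hQ : Bad Q w) (hne : z ≠ w)
    (hPQ : P ≤ normalizer (Q : Set S)) (hQP : Q ≤ normalizer (P : Set S)) :
    (∀ x, x ∈ P → x ∈ Q → x = 1) ∧ ∀ x ∈ P, ∀ y ∈ Q, x * y = y * x := by
  haveI : Fact (Nat.Prime 2) := ⟨Nat.prime_two⟩
  have hzQ : z ∉ Q := by
    intro hz
    rcases hQ.center z hz (fun x hx => mul_inv_eq_iff_eq_mul.mp (hP.fix (hQP hx))) with e | e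
    · exact hP.ne_one e
    · exact hne e
  have hdis : ∀ x, x ∈ P → x ∈ Q → x = 1 := by
    intro x hxP hxQ
    by_contra hx
    have hn : (Q.subgroupOf P).Normal := ⟨fun a ha g => mem_subgroupOf.mpr
      ((mem_normalizer_iff.mp (hPQ g.2) a).mp (mem_subgroupOf.mp ha))⟩
    haveI := (h2.to_subgroup P).isNilpotent
    haveI := hn
    have hne' : Q.subgroupOf P ≠ ⊥ := fun hb => by
      have hm : (⟨x, hxP⟩ : P) ∈ Q.subgroupOf P := mem_subgroupOf.mpr hxQ
      rw [hb, Subgroup.mem_bot] at hm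
      exact hx (congrArg Subtype.val hm)
    obtain ⟨⟨c, hc⟩, hc1⟩ := ne_bot_iff_exists_ne_one.1
      (CfsgLib.Solvable.FrattiniFitting.inf_center_ne_bot (Q.subgroupOf P) hne')
    have hcc := (Subgroup.mem_inf.mp hc).2
    rcases hP.center c c.2 (fun a ha => congrArg Subtype.val (mem_center_iff.mp hcc ⟨a, ha⟩)) with e | e
    · exact hc1 (Subtype.ext (Subtype.ext e))
    · exact hzQ (e ▸ mem_subgroupOf.mp (Subgroup.mem_inf.mp hc).1)
  refine ⟨hdis, fun x hx y hy => ?_⟩
  have h1 : x * y * x⁻¹ * y⁻¹ = 1 := hdis _ (by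
      rw [show x * y * x⁻¹ * y⁻¹ = x * (y * x⁻¹ * y⁻¹) by group]
      exact mul_mem hx ((mem_normalizer_iff.mp (hQP hy) x⁻¹).mp (inv_mem hx)))
    (mul_mem ((mem_normalizer_iff.mp (hPQ hx) y).mp hy) (inv_mem hy))
  rwa [mul_inv_eq_one, mul_inv_eq_iff_eq_mul] at h1

/-- A homomorphism into `S` bounds the rank of a quotient of its image. -/
theorem rank_of_hom {k : ℕ} (hr : Cfsg.SectionalPRankLE 2 k S) {K E : Type*} [Group K] [Group E]
    (f : K →* S) (π : K →* E) (hπ : Function.Surjective π) (hker : f.ker ≤ π.ker) : Cfsg.PRankLE 2 k E := by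
  let π' : f.range →* E := f.rangeRestrict.liftOfSurjective f.rangeRestrict_surjective
    ⟨π, by rwa [MonoidHom.ker_rangeRestrict]⟩
  have hsur : Function.Surjective π' := fun e => by
    obtain ⟨x, rfl⟩ := hπ e
    exact ⟨f.rangeRestrict x, MonoidHom.liftOfRightInverse_comp_apply _ _ _ _ x⟩
  let e := QuotientGroup.quotientKerEquivOfSurjective π' hsur
  intro A hA hA2
  have h := hr f.range π'.ker (A.map e.symm.toMonoidHom) ⟨⟨?_⟩⟩ ?_
  · rwa [Subgroup.card_map_of_injective e.symm.injective] at h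
  · rintro ⟨_, a, ha, rfl⟩ ⟨_, b, hb, rfl⟩
    exact Subtype.ext ((map_mul e.symm a b).symm.trans ((congrArg e.symm
      (congrArg Subtype.val (hA.is_comm.comm ⟨a, ha⟩ ⟨b, hb⟩))).trans (map_mul e.symm b a)))
  · rintro _ ⟨a, ha, rfl⟩
    exact ((map_pow e.symm a 2).symm.trans (congrArg e.symm (hA2 a ha))).trans (map_one _)

theorem sectional_subgroup {k : ℕ} (hr : Cfsg.SectionalPRankLE 2 k S) (K : Subgroup S) :
    Cfsg.SectionalPRankLE 2 k K := fun H N _ =>
  rank_of_hom hr (K.subtype.comp H.subtype) (QuotientGroup.mk' N) (QuotientGroup.mk'_surjective N)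
    (fun x hx => by
      rw [show x = 1 from Subtype.ext (Subtype.ext (MonoidHom.mem_ker.mp hx))]
      exact one_mem _)

theorem frattini_four (h2 : IsPGroup 2 S) (P : Subgroup S) (hc : ¬ IsCyclic P) :
    4 ≤ Nat.card (P ⧸ frattini P) := by
  haveI : Fact (Nat.Prime 2) := ⟨Nat.prime_two⟩
  rw [← Subgroup.index_eq_card]
  obtain ⟨e, he⟩ := (h2.to_subgroup P).index (frattini P)
  have h3 : ¬ (frattini P).index ≤ 2 := fun h =>
    hc (CfsgLib.PGroup.SubgroupCount.isCyclic_of_frattini_index (h2.to_subgroup P) h)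
  rw [he] at h3 ⊢
  rcases e with _ | _ | e
  · simp at h3
  · simp at h3
  · calc 4 = 2 ^ 2 := rfl
      _ ≤ _ := Nat.pow_le_pow_right (by norm_num) (by omega)

/-- The rank of a section of `P` when `Q` is noncyclic, commutes with `P` and meets it trivially. -/
theorem rank_two (h2 : IsPGroup 2 S) (hr : Cfsg.SectionalPRankLE 2 4 S) {P Q : Subgroup S}
    (hQ : ¬ IsCyclic Q) (hdis : ∀ x, x ∈ P → x ∈ Q → x = 1) (hcomm : ∀ x ∈ P, ∀ y ∈ Q, x * y = y * x) :
    Cfsg.SectionalPRankLE 2 2 P := by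
  haveI : Fact (Nat.Prime 2) := ⟨Nat.prime_two⟩
  intro H N _ A hA hA2
  let f : H × Q →* S :=
    { toFun := fun x => (x.1 : P).1 * x.2.1
      map_one' := by simp
      map_mul' := fun a b => by
        show ((a.1 : P) : S) * (b.1 : P) * (((a.2 : Q) : S) * b.2) =
          ((a.1 : P) : S) * a.2 * (((b.1 : P) : S) * b.2)
        rw [mul_assoc, mul_assoc, ← mul_assoc ((b.1 : P) : S), hcomm _ (b.1 : P).2 _ a.2.2, mul_assoc] }
  let π : H × Q →* (H ⧸ N) × (Q ⧸ frattini Q) := (QuotientGroup.mk' N).prodMap (QuotientGroup.mk' _)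
  have hker : f.ker ≤ π.ker := by
    intro x hx
    have h1 : ((x.1 : P) : S) = (x.2 : S)⁻¹ := eq_inv_of_mul_eq_one_left (MonoidHom.mem_ker.mp hx)
    have h3 := hdis _ (x.1 : P).2 (h1 ▸ inv_mem x.2.2)
    have h4 : x = 1 := Prod.ext (Subtype.ext (Subtype.ext h3)) (Subtype.ext (by
      rw [h3, eq_comm, inv_eq_one] at h1; exact h1))
    rw [h4]; exact one_mem _
  have h := rank_of_hom hr f π (Function.Surjective.prodMap (QuotientGroup.mk'_surjective N)
    (QuotientGroup.mk'_surjective _)) hker (A.prod ⊤)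
    ⟨⟨fun a b => Subtype.ext (Prod.ext (congrArg Subtype.val (hA.is_comm.comm ⟨a.1.1, a.2.1⟩ ⟨b.1.1, b.2.1⟩))
      (CfsgLib.PGroup.Frattini.quotient_mul_comm (h2.to_subgroup Q) _ _))⟩⟩
    (fun a ha => Prod.ext (hA2 _ ha.1) (CfsgLib.PGroup.Frattini.quotient_pow_eq_one (h2.to_subgroup Q) _))
  rw [Nat.card_congr (Subgroup.prodEquiv A (⊤ : Subgroup (Q ⧸ frattini Q))).toEquiv, Nat.card_prod,
    Subgroup.card_top] at h
  have := frattini_four h2 Q hQ
  nlinarith

/-- An element centralising both subgroups lies in their product. -/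
theorem centralizer_mem (h2 : IsPGroup 2 S) (hr : Cfsg.SectionalPRankLE 2 4 S) {P Q : Subgroup S} {z w : S}
    (hP : Bad P z) (hQ : Bad Q w) (hdis : ∀ x, x ∈ P → x ∈ Q → x = 1)
    (hcomm : ∀ x ∈ P, ∀ y ∈ Q, x * y = y * x) {c : S} (hcP : ∀ x ∈ P, x * c = c * x)
    (hcQ : ∀ x ∈ Q, x * c = c * x) : c = 1 ∨ c = z ∨ c = w ∨ c = z * w := by
  haveI : Fact (Nat.Prime 2) := ⟨Nat.prime_two⟩
  let g : P × Q →* S :=
    { toFun := fun x => (x.1 : S) * x.2
      map_one' := by simp
      map_mul' := fun a b => by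
        show ((a.1 : P) : S) * b.1 * (((a.2 : Q) : S) * b.2) = ((a.1 : P) : S) * a.2 * (((b.1 : P) : S) * b.2)
        rw [mul_assoc, mul_assoc, ← mul_assoc ((b.1 : P) : S), hcomm _ b.1.2 _ a.2.2, mul_assoc] }
  -- members of the image which centralise both
  have hcent : ∀ (x : P) (y : Q), (∀ a ∈ P, a * (g (x, y)) = g (x, y) * a) →
      (∀ a ∈ Q, a * (g (x, y)) = g (x, y) * a) → (∀ a : P, a * x = x * a) ∧ ∀ a : Q, a * y = y * a := by
    intro x y h1 h3
    constructor
    · intro a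
      have e := h1 a a.2
      refine Subtype.ext (mul_right_cancel (b := (y : S)) ?_)
      calc (a : S) * x * y = a * (x * y) := mul_assoc _ _ _
        _ = (x : S) * y * a := e
        _ = (x : S) * a * y := by rw [mul_assoc, ← hcomm _ a.2 _ y.2, ← mul_assoc]
    · intro a
      have e := h3 a a.2
      refine Subtype.ext (mul_left_cancel (a := (x : S)) ?_)
      calc (x : S) * (a * y) = a * (x * y) := by rw [← mul_assoc, hcomm _ x.2 _ a.2, mul_assoc]
        _ = (x : S) * y * a := e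
        _ = (x : S) * (y * a) := mul_assoc _ _ _
  by_cases hc : c ∈ g.range
  · obtain ⟨⟨x, y⟩, rfl⟩ := hc
    obtain ⟨hx, hy⟩ := hcent x y hcP hcQ
    show (x : S) * y = 1 ∨ (x : S) * y = z ∨ (x : S) * y = w ∨ (x : S) * y = z * w
    rcases hP.center x x.2 (fun a ha => congrArg Subtype.val (hx ⟨a, ha⟩)) with e | e <;>
      rcases hQ.center y y.2 (fun a ha => congrArg Subtype.val (hy ⟨a, ha⟩)) with e' | e' <;>
      simp [e, e']
  exfalso
  have hcg : ∀ u, Commute (g u) c := fun u =>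
    (show Commute (u.1 : S) c from hcP _ u.1.2).mul_left (hcQ _ u.2.2)
  set C := zpowers c
  set D : Subgroup C := g.range.subgroupOf C with hD
  haveI : D.Normal := inferInstance
  let f : (P × Q) × C →* S := g.noncommCoprod C.subtype fun u v => by
    obtain ⟨i, hi⟩ := mem_zpowers_iff.mp v.2
    show Commute (g u) (v : S)
    rw [← hi]
    exact (hcg u).zpow_right i
  let π : (P × Q) × C →* ((P ⧸ frattini P) × (Q ⧸ frattini Q)) × (C ⧸ D) :=
    ((QuotientGroup.mk' _).prodMap (QuotientGroup.mk' _)).prodMap (QuotientGroup.mk' D)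
  have hker : f.ker ≤ π.ker := by
    rintro ⟨⟨x, y⟩, v⟩ hu
    have hu' : g (x, y) * (v : S) = 1 := MonoidHom.mem_ker.mp hu
    have hgv : g (x, y) = (v : S)⁻¹ := eq_inv_of_mul_eq_one_left hu'
    obtain ⟨i, hi⟩ := mem_zpowers_iff.mp v.2
    have hcv : ∀ a : S, (a * c = c * a) → a * g (x, y) = g (x, y) * a := fun a ha => by
      rw [hgv, ← hi]
      exact ((show Commute a c from ha).zpow_right i).inv_right
    obtain ⟨hx, hy⟩ := hcent x y (fun a ha => hcv a (hcP a ha)) (fun a ha => hcv a (hcQ a ha))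
    have hvD : v ∈ D := mem_subgroupOf.mpr ((inv_mem_iff (H := g.range)).mp ⟨(x, y), hgv⟩)
    exact Prod.ext (Prod.ext ((QuotientGroup.eq_one_iff x).mpr (hP.center_le_frattini h2 x hx))
      ((QuotientGroup.eq_one_iff y).mpr (hQ.center_le_frattini h2 y hy))) ((QuotientGroup.eq_one_iff v).mpr hvD)
  have hDne : D ≠ ⊤ := fun h => hc (mem_subgroupOf.mp (h ▸ mem_top (⟨c, mem_zpowers c⟩ : C)))
  haveI : Nontrivial (C ⧸ D) := QuotientGroup.nontrivial_iff.mpr hDne
  obtain ⟨v, hv⟩ := exists_prime_orderOf_dvd_card' (G := C ⧸ D) 2 (by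
    obtain ⟨e, he⟩ := IsPGroup.iff_card.mp ((h2.to_subgroup C).to_quotient D)
    rw [he]
    refine dvd_pow_self 2 fun e0 => ?_
    have := Finite.one_lt_card (α := C ⧸ D)
    rw [he, e0, pow_zero] at this
    omega)
  have h := rank_of_hom hr f π (Function.Surjective.prodMap (Function.Surjective.prodMap
    (QuotientGroup.mk'_surjective _) (QuotientGroup.mk'_surjective _)) (QuotientGroup.mk'_surjective _)) hker
    ((⊤ : Subgroup ((P ⧸ frattini P) × (Q ⧸ frattini Q))).prod (zpowers v))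
    ⟨⟨fun a b => Subtype.ext (Prod.ext (Prod.ext (CfsgLib.PGroup.Frattini.quotient_mul_comm (h2.to_subgroup P) _ _)
      (CfsgLib.PGroup.Frattini.quotient_mul_comm (h2.to_subgroup Q) _ _))
      (congrArg Subtype.val ((inferInstance : IsMulCommutative (zpowers v)).is_comm.comm
        ⟨a.1.2, a.2.2⟩ ⟨b.1.2, b.2.2⟩)))⟩⟩
    (fun a ha => Prod.ext (Prod.ext (CfsgLib.PGroup.Frattini.quotient_pow_eq_one (h2.to_subgroup P) _)
      (CfsgLib.PGroup.Frattini.quotient_pow_eq_one (h2.to_subgroup Q) _)) (by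
        obtain ⟨i, hi⟩ := mem_zpowers_iff.mp ha.2
        rw [Prod.snd_one, Prod.pow_snd, ← hi, ← zpow_natCast, ← zpow_mul, mul_comm, zpow_mul, zpow_natCast, ← hv,
          pow_orderOf_eq_one, one_zpow]))
  rw [Nat.card_congr (Subgroup.prodEquiv _ (zpowers v)).toEquiv, Nat.card_prod, Subgroup.card_top,
    Nat.card_prod, Nat.card_zpowers, hv] at h
  have h3 := frattini_four h2 P hP.not_cyclic
  have h4 := frattini_four h2 Q hQ.not_cyclic
  nlinarith

/-- From a centre of order two. -/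
theorem exists_bad {P : Subgroup S} (hP : ¬ IsMulCommutative P) (hZ : Nat.card (Subgroup.center P) = 2) :
    ∃ z, Bad P z ∧ (∀ g, g ∈ (Subgroup.center P).map P.subtype ↔ g = 1 ∨ g = z) := by
  obtain ⟨u, v, huv, hset⟩ := Nat.card_eq_two_iff.mp hZ
  obtain ⟨t, ht1, ht⟩ : ∃ t : Subgroup.center P, t ≠ 1 ∧ ∀ r, r = 1 ∨ r = t := by
    have hm : ∀ r, r = u ∨ r = v := fun r => by
      have : r ∈ ({u, v} : Set (Subgroup.center P)) := hset ▸ Set.mem_univ r
      simpa using this
    rcases hm 1 with e | e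
    · exact ⟨v, fun h => huv (e.symm.trans h.symm), fun r => (hm r).imp_left (·.trans e.symm)⟩
    · exact ⟨u, fun h => huv (h.trans e), fun r => (hm r).symm.imp_left (·.trans e.symm)⟩
  have hz1 : ((t : P) : S) ≠ 1 := fun h => ht1 (Subtype.ext (Subtype.ext h))
  refine ⟨((t : P) : S), ⟨(t : P).2, hz1, fun x hx => congrArg Subtype.val (mem_center_iff.mp t.2 ⟨x, hx⟩),
    fun y hy hc => ?_, fun hab => hP ⟨⟨fun a b => Subtype.ext (hab a a.2 b b.2)⟩⟩⟩, fun g => ⟨?_, ?_⟩⟩
  · rcases ht ⟨⟨y, hy⟩, mem_center_iff.mpr fun x => Subtype.ext (hc x x.2)⟩ with e | e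
    · exact Or.inl (congrArg (fun r : Subgroup.center P => ((r : P) : S)) e)
    · exact Or.inr (congrArg (fun r : Subgroup.center P => ((r : P) : S)) e)
  · rintro ⟨a, ha, rfl⟩
    rcases ht ⟨a, ha⟩ with e | e
    · exact Or.inl (congrArg (fun r : Subgroup.center P => ((r : P) : S)) e)
    · exact Or.inr (congrArg (fun r : Subgroup.center P => ((r : P) : S)) e)
  · rintro (rfl | rfl)
    · exact one_mem _
    · exact ⟨t, t.2, rfl⟩

end CfsgLib.NumberTheory.SectionalRankFour
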