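import Cfsg.Agent.Lib.Fusion.Abelian
import Cfsg.Agent.Lib.SmallGroups.PrimeDegree
import Mathlib

/-!
# No simple group has fifteen Sylow 7-subgroups
-/

set_option autoImplicit false

namespace CfsgLib.NT.SylowFifteen

open Subgroup

variable {S : Type*} [Group S] [Finite S] [IsSimpleGroup S]

local instance : Fact (Nat.Prime 7) := ⟨by norm_num⟩

/-- The other fifteen minus one. -/
theorem card_others (h15 : Nat.card (Sylow 7 S) = 15) (P : Sylow 7 S) :
    Nat.card {R : Sylow 7 S // R ≠ P} = 14 := by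
  classical
  have := Fintype.ofFinite (Sylow 7 S)
  rw [Nat.card_eq_fintype_card, Fintype.card_subtype_compl, Fintype.card_subtype_eq,
    ← Nat.card_eq_fintype_card, h15]

theorem stabilizer_eq (P Q : Sylow 7 S) :
    MulAction.stabilizer (P : Subgroup S) Q =
      ((P : Subgroup S) ⊓ Q).subgroupOf (P : Subgroup S) := by
  ext x
  rw [MulAction.mem_stabilizer_iff, mem_subgroupOf, ← P.isPGroup'.inf_normalizer_sylow Q, mem_inf]
  show (x : S) • Q = Q ↔ _
  rw [Sylow.smul_eq_iff_mem_normalizer]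
  exact ⟨fun h => ⟨x.2, h⟩, fun h => h.2⟩

/-- Two Sylow subgroups meet in a subgroup of index seven. -/
theorem relIndex_inf (h15 : Nat.card (Sylow 7 S) = 15) {P Q : Sylow 7 S} (hne : Q ≠ P) :
    ((P : Subgroup S) ⊓ Q).relIndex P = 7 := by
  classical
  have horb : Nat.card (MulAction.orbit (P : Subgroup S) Q) = ((P : Subgroup S) ⊓ Q).relIndex P := by
    rw [Nat.card_congr (MulAction.orbitEquivQuotientStabilizer (P : Subgroup S) Q),
      ← Subgroup.index_eq_card, stabilizer_eq]
    rfl
  have hfix : ∀ T : MulAction.orbit (P : Subgroup S) Q, (T : Sylow 7 S) ≠ P := by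
    rintro ⟨T, x, rfl⟩ h
    apply hne
    have h' : (x : S) • Q = P := h
    rw [← inv_smul_smul (x : S) Q, h']
    exact Sylow.smul_eq_iff_mem_normalizer.2 (inv_mem (le_normalizer x.2))
  have hle : Nat.card (MulAction.orbit (P : Subgroup S) Q) ≤ 14 := by
    rw [← card_others h15 P]
    exact Nat.card_le_card_of_injective (fun T => ⟨_, hfix T⟩)
      fun a b h => Subtype.ext (congrArg Subtype.val h :)
  obtain ⟨k, hk⟩ := P.isPGroup'.index (((P : Subgroup S) ⊓ Q).subgroupOf (P : Subgroup S))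
  change ((P : Subgroup S) ⊓ Q).relIndex P = 7 ^ k at hk
  rw [horb, hk] at hle
  have hk2 : k ≤ 1 := by
    by_contra hc
    have h1 := Nat.pow_le_pow_right (show 1 ≤ 7 by norm_num) (show 2 ≤ k by omega)
    omega
  interval_cases k
  · exfalso
    rw [pow_zero, Subgroup.relIndex_eq_one] at hk
    exact hne (Sylow.ext (P.is_maximal' Q.isPGroup' (hk.trans inf_le_right)))
  · exact hk

theorem not_le_all {D : Subgroup S} (h15 : Nat.card (Sylow 7 S) = 15) (hD : D ≠ ⊥) :
    ∃ R : Sylow 7 S, ¬ D ≤ R := by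
  by_contra hc
  simp only [not_exists, not_not] at hc
  set I : Subgroup S := ⨅ R : Sylow 7 S, (R : Subgroup S) with hI
  have hnorm : I.Normal := by
    refine ⟨fun x hx g => ?_⟩
    rw [hI, mem_iInf] at hx ⊢
    intro R
    have h := hx (g⁻¹ • R)
    rw [Sylow.coe_subgroup_smul, mem_pointwise_smul_iff_inv_smul_mem] at h
    simpa [MulAut.smul_def, mul_assoc] using h
  rcases hnorm.eq_bot_or_eq_top with h | h
  · exact hD (eq_bot_iff.2 (h ▸ le_iInf hc))
  · obtain ⟨P⟩ := (inferInstance : Nonempty (Sylow 7 S))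
    have : Subsingleton (Sylow 7 S) := ⟨fun a b => Sylow.ext (by
      rw [(eq_top_iff.2 (h ▸ iInf_le _ a) : (a : Subgroup S) = ⊤), (eq_top_iff.2 (h ▸ iInf_le _ b) : (b : Subgroup S) = ⊤)])⟩
    have := Finite.card_le_one_iff_subsingleton.2 this
    omega

theorem card_sylow_eq_seven (h15 : Nat.card (Sylow 7 S) = 15) (P₀ : Sylow 7 S) :
    Nat.card (P₀ : Subgroup S) = 7 := by
  classical
  by_contra hne
  have hmul : ∀ P Q : Sylow 7 S, Q ≠ P →
      Nat.card ((P : Subgroup S) ⊓ Q : Subgroup S) * 7 = Nat.card (P₀ : Subgroup S) := fun P Q h => by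
    have h1 := (((P : Subgroup S) ⊓ Q).subgroupOf (P : Subgroup S)).card_mul_index
    change _ * ((P : Subgroup S) ⊓ Q).relIndex P = _ at h1
    rw [relIndex_inf h15 h, Nat.card_congr
      (subgroupOfEquivOfLe (inf_le_left : (P : Subgroup S) ⊓ Q ≤ P)).toEquiv,
      P.card_eq_multiplicity, ← P₀.card_eq_multiplicity] at h1
    exact h1
  have hbot : ∀ P Q : Sylow 7 S, Q ≠ P → (P : Subgroup S) ⊓ Q ≠ ⊥ := fun P Q h hb => hne (by
    rw [← hmul P Q h, hb, Subgroup.card_bot, one_mul])
  -- a subgroup of this shape lies in exactly eight Sylow subgroups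
  have height : ∀ P Q : Sylow 7 S, Q ≠ P →
      Nat.card {R : Sylow 7 S // (P : Subgroup S) ⊓ Q ≤ R} = 8 := by
    intro P Q hQP
    set D := (P : Subgroup S) ⊓ Q with hD
    have hidx : (D.subgroupOf (P : Subgroup S)).index = 7 := relIndex_inf h15 hQP
    have hnor : (D.subgroupOf (P : Subgroup S)).Normal := by
      refine Subgroup.normal_of_index_eq_minFac_card ?_
      rw [hidx, P.card_eq_multiplicity, Nat.pow_minFac, (Nat.Prime.minFac_eq (by norm_num))]
      intro h0
      have h1 := hmul P Q hQP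
      rw [P₀.card_eq_multiplicity, h0] at h1
      omega
    have hPD : ∀ x ∈ (P : Subgroup S), ∀ d ∈ D, x * d * x⁻¹ ∈ D := fun x hx d hd =>
      hnor.conj_mem ⟨d, (inf_le_left : D ≤ P) hd⟩ hd ⟨x, hx⟩
    have hsm : ∀ (x : (P : Subgroup S)) (R : Sylow 7 S), D ≤ R → D ≤ ((x : S) • R : Sylow 7 S) := by
      intro x R hR d hd
      rw [Sylow.coe_subgroup_smul, mem_pointwise_smul_iff_inv_smul_mem]
      have h1 := hR (hPD _ (inv_mem x.2) d hd)
      simpa [MulAut.smul_def] using h1
    let _ : MulAction (P : Subgroup S) {R : Sylow 7 S // D ≤ R} :=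
      { smul := fun x R => ⟨(x : S) • R.1, hsm x R.1 R.2⟩
        one_smul := fun R => Subtype.ext (one_smul _ _)
        mul_smul := fun x y R => Subtype.ext (mul_smul _ _ _) }
    have hmod := P.isPGroup'.card_modEq_card_fixedPoints {R : Sylow 7 S // D ≤ R}
    have hone : Nat.card (MulAction.fixedPoints (P : Subgroup S) {R : Sylow 7 S // D ≤ R}) = 1 := by
      have hmemP : (⟨P, inf_le_left⟩ : {R : Sylow 7 S // D ≤ R}) ∈
          MulAction.fixedPoints (P : Subgroup S) {R : Sylow 7 S // D ≤ R} := fun x =>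
        Subtype.ext (Sylow.smul_eq_iff_mem_normalizer.2 (le_normalizer x.2))
      refine Nat.card_eq_one_iff_unique.2 ⟨⟨fun a b => ?_⟩, ⟨⟨_, hmemP⟩⟩⟩
      have huniq : ∀ a : MulAction.fixedPoints (P : Subgroup S) {R : Sylow 7 S // D ≤ R},
          a.1.1 = P := fun a => by
        refine Sylow.ext (P.is_maximal' a.1.1.isPGroup' fun x hx => ?_)
        have h1 : x • a.1.1 = a.1.1 := congrArg Subtype.val (a.2 ⟨x, hx⟩)
        have h2 : x ∈ (P : Subgroup S) ⊓ normalizer (a.1.1 : Set S) :=
          mem_inf.2 ⟨hx, Sylow.smul_eq_iff_mem_normalizer.1 h1⟩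
        rw [P.isPGroup'.inf_normalizer_sylow] at h2
        exact (mem_inf.1 h2).2
      exact Subtype.ext (Subtype.ext ((huniq a).trans (huniq b).symm))
    rw [hone, Nat.ModEq] at hmod
    have h2 : 2 ≤ Nat.card {R : Sylow 7 S // D ≤ R} := by
      have h := Nat.card_le_card_of_injective
        (![(⟨P, inf_le_left⟩ : {R : Sylow 7 S // D ≤ R}), ⟨Q, inf_le_right⟩]) ?_
      · simpa using h
      · intro i j hij
        fin_cases i <;> fin_cases j
        · rfl
        · exact absurd (congrArg Subtype.val hij).symm hQP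
        · exact absurd (congrArg Subtype.val hij) hQP
        · rfl
    have h14 : Nat.card {R : Sylow 7 S // D ≤ R} < 15 := by
      obtain ⟨R, hR⟩ := not_le_all h15 (hbot P Q hQP)
      rw [← h15]
      exact Finite.card_subtype_lt hR
    omega
  -- count incidences
  let 𝒟 := {D : Subgroup S // ∃ P Q : Sylow 7 S, Q ≠ P ∧ D = (P : Subgroup S) ⊓ Q}
  have hfib : ∀ P : Sylow 7 S, Nat.card {D : 𝒟 // D.1 ≤ P} = 2 := by
    intro P
    let f : {Q : Sylow 7 S // Q ≠ P} → {D : 𝒟 // D.1 ≤ P} :=
      fun Q => ⟨⟨(P : Subgroup S) ⊓ Q.1, P, Q.1, Q.2, rfl⟩, inf_le_left⟩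
    have hsz : ∀ D : {D : 𝒟 // D.1 ≤ P}, Nat.card {Q // f Q = D} = 7 := by
      rintro ⟨⟨D, A, B, hBA, rfl⟩, hDP⟩
      dsimp only at hDP
      have h8 := height A B hBA
      have hcomp : Nat.card {R : {R : Sylow 7 S // (A : Subgroup S) ⊓ B ≤ R} // R ≠ ⟨P, hDP⟩} = 7 := by
        have := Fintype.ofFinite {R : Sylow 7 S // (A : Subgroup S) ⊓ B ≤ R}
        rw [Nat.card_eq_fintype_card, Fintype.card_subtype_compl, Fintype.card_subtype_eq,
          ← Nat.card_eq_fintype_card, h8]
      have hfwd : ∀ Q, f Q = ⟨⟨(A : Subgroup S) ⊓ B, A, B, hBA, rfl⟩, hDP⟩ →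
          (A : Subgroup S) ⊓ B ≤ Q.1 := fun Q hQ => by
        have h : (P : Subgroup S) ⊓ Q.1 = (A : Subgroup S) ⊓ B :=
          congrArg (fun D : {D : 𝒟 // D.1 ≤ P} => D.1.1) hQ
        exact h ▸ inf_le_right
      have hbwd : ∀ (R : Sylow 7 S) (hR : R ≠ P), (A : Subgroup S) ⊓ B ≤ R →
          f ⟨R, hR⟩ = ⟨⟨(A : Subgroup S) ⊓ B, A, B, hBA, rfl⟩, hDP⟩ := fun R hR hle => by
        refine Subtype.ext (Subtype.ext ?_)
        show (P : Subgroup S) ⊓ R = (A : Subgroup S) ⊓ B
        refine (Subgroup.eq_of_le_of_card_ge (le_inf hDP hle) ?_).symm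
        have h1 := hmul P R hR
        have h2 := hmul A B hBA
        omega
      have e : {Q // f Q = ⟨⟨(A : Subgroup S) ⊓ B, A, B, hBA, rfl⟩, hDP⟩} ≃
          {R : {R : Sylow 7 S // (A : Subgroup S) ⊓ B ≤ R} // R ≠ ⟨P, hDP⟩} :=
        { toFun := fun Q => ⟨⟨Q.1.1, hfwd Q.1 Q.2⟩, fun h => Q.1.2 (congrArg Subtype.val h)⟩
          invFun := fun R => ⟨⟨R.1.1, fun h => R.2 (Subtype.ext h)⟩, hbwd _ _ R.1.2⟩
          left_inv := fun Q => rfl
          right_inv := fun R => rfl }
      exact (Nat.card_congr e).trans hcomp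
    have hsum : Nat.card {Q : Sylow 7 S // Q ≠ P} = Nat.card {D : 𝒟 // D.1 ≤ P} * 7 := by
      have := Fintype.ofFinite {D : 𝒟 // D.1 ≤ P}
      rw [← Nat.card_congr (Equiv.sigmaFiberEquiv f), Nat.card_sigma, Finset.sum_congr rfl
        (fun D _ => hsz D), Finset.sum_const, Finset.card_univ, smul_eq_mul, Nat.card_eq_fintype_card]
    rw [card_others h15 P] at hsum
    omega
  have hcol : ∀ D : 𝒟, Nat.card {P : Sylow 7 S // D.1 ≤ P} = 8 := by
    rintro ⟨D, A, B, hBA, rfl⟩
    exact height A B hBA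
  have e : (Σ P : Sylow 7 S, {D : 𝒟 // D.1 ≤ P}) ≃ (Σ D : 𝒟, {P : Sylow 7 S // D.1 ≤ P}) :=
    { toFun := fun x => ⟨x.2.1, x.1, x.2.2⟩
      invFun := fun x => ⟨x.2.1, x.1, x.2.2⟩
      left_inv := fun x => rfl
      right_inv := fun x => rfl }
  have := Fintype.ofFinite (Sylow 7 S)
  have := Fintype.ofFinite 𝒟
  have h := Nat.card_congr e
  rw [Nat.card_sigma, Nat.card_sigma, Finset.sum_congr rfl (fun P _ => hfib P),
    Finset.sum_congr rfl (fun D _ => hcol D), Finset.sum_const, Finset.sum_const, Finset.card_univ,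
    Finset.card_univ, smul_eq_mul, smul_eq_mul, ← Nat.card_eq_fintype_card, h15] at h
  omega

theorem centralizer_prime_order (h15 : Nat.card (Sylow 7 S) = 15) (P : Sylow 7 S)
    (h7 : Nat.card (P : Subgroup S) = 7) (d : S)
    (hd : d ∈ centralizer ((P : Subgroup S) : Set S)) {r : ℕ} (hr : r.Prime) (hdr : orderOf d = r) :
    r = 7 := by
  classical
  by_contra hr7
  have hd1 : d ≠ 1 := fun h => hr.one_lt.ne (by rw [← hdr, h, orderOf_one])
  have hnc : ¬ ∀ a b : S, a * b = b * a := by
    intro hc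
    have hn : (P : Subgroup S).Normal := ⟨fun x hx g => by rwa [hc g x, mul_inv_cancel_right]⟩
    have hsub : Subsingleton (Sylow 7 S) :=
      ⟨fun a b => by
        obtain ⟨g, hg⟩ := MulAction.exists_smul_eq S P a
        obtain ⟨g', hg'⟩ := MulAction.exists_smul_eq S P b
        rw [← hg, ← hg', Sylow.smul_eq_of_normal (h := hn), Sylow.smul_eq_of_normal (h := hn)]⟩
    have := Finite.card_le_one_iff_subsingleton.2 hsub
    omega
  have hfaith : ∀ g : S, (∀ R : Sylow 7 S, g • R = R) → g = 1 := by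
    intro g hg
    have hker : g ∈ (MulAction.toPermHom S (Sylow 7 S)).ker := Equiv.ext hg
    rcases (MulAction.toPermHom S (Sylow 7 S)).normal_ker.eq_bot_or_eq_top with h | h
    · rwa [h, mem_bot] at hker
    · exfalso
      obtain ⟨R, hR⟩ : ∃ R : Sylow 7 S, R ≠ P := by
        by_contra hc
        simp only [not_exists, not_not] at hc
        have : Subsingleton (Sylow 7 S) := ⟨fun a b => (hc a).trans (hc b).symm⟩
        have := Finite.card_le_one_iff_subsingleton.2 this
        omega
      obtain ⟨x, hx⟩ := MulAction.exists_smul_eq S P R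
      have hx' : x ∈ (MulAction.toPermHom S (Sylow 7 S)).ker := h ▸ mem_top x
      exact hR (hx ▸ (Equiv.ext_iff.1 hx' P))
  have hdP : d • P = P :=
    Sylow.smul_eq_iff_mem_normalizer.2 (centralizer_le_normalizer ((P : Subgroup S) : Set S) hd)
  -- semiregularity of `P`
  have hsemi : ∀ h ∈ (P : Subgroup S), ∀ R : Sylow 7 S, R ≠ P → h • R = R → h = 1 := by
    intro h hh R hR hfix
    by_contra h1
    have hmem : h ∈ (P : Subgroup S) ⊓ normalizer (R : Set S) :=
      mem_inf.2 ⟨hh, Sylow.smul_eq_iff_mem_normalizer.1 hfix⟩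
    rw [P.isPGroup'.inf_normalizer_sylow] at hmem
    have hz : zpowers h ≤ (P : Subgroup S) ⊓ R := zpowers_le.2 hmem
    have hidx := relIndex_inf h15 hR
    have hmul := (((P : Subgroup S) ⊓ R).subgroupOf (P : Subgroup S)).card_mul_index
    change _ * ((P : Subgroup S) ⊓ R).relIndex P = _ at hmul
    rw [hidx, Nat.card_congr (subgroupOfEquivOfLe (inf_le_left : (P : Subgroup S) ⊓ R ≤ P)).toEquiv,
      h7] at hmul
    have hb : (P : Subgroup S) ⊓ R = ⊥ := Subgroup.eq_bot_of_card_eq _ (by omega)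
    rw [hb] at hz
    exact h1 (mem_bot.1 (hz (mem_zpowers h)))
  have hcomm : ∀ h ∈ (P : Subgroup S), ∀ R : Sylow 7 S, d • h • R = h • d • R := fun h hh R => by
    rw [smul_smul, smul_smul, mem_centralizer_iff.1 hd h hh]
  -- a translate fixed up to `P`
  have key1 : ∀ (e : S), (∀ h ∈ (P : Subgroup S), ∀ R : Sylow 7 S, e • h • R = h • e • R) →
      e ^ r = 1 → ∀ R : Sylow 7 S, R ≠ P → ∀ h ∈ (P : Subgroup S), e • R = h • R → e • R = R := by
    intro e hec her R hR h hh heq
    have hn : ∀ n : ℕ, e ^ n • R = h ^ n • R := by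
      intro n
      induction n with
      | zero => simp
      | succ n ih =>
        rw [pow_succ', mul_smul, ih, hec _ (pow_mem hh n), heq, ← mul_smul, ← pow_succ]
    have h1 := hn r
    rw [her, one_smul] at h1
    have h2 := hsemi _ (pow_mem hh r) R hR h1.symm
    have h3 : h ^ 7 = 1 := by
      rw [← h7, ← Subgroup.coe_mk (P : Subgroup S) h hh, ← SubmonoidClass.coe_pow, pow_card_eq_one']
      rfl
    have hcop : Nat.gcd r 7 = 1 := (Nat.coprime_primes hr (by norm_num)).2 hr7
    have h4 : h = 1 := by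
      have := pow_gcd_eq_one.mpr ⟨h2, h3⟩
      rwa [hcop, pow_one] at this
    rw [heq, h4, one_smul]
  have hother : ∀ R : Sylow 7 S, R ≠ P → ∀ h ∈ (P : Subgroup S), h • R ≠ P := by
    intro R hR h hh e
    apply hR
    rw [← inv_smul_smul h R, e]
    exact Sylow.smul_eq_iff_mem_normalizer.2 (le_normalizer (inv_mem hh))
  have hmove : ∀ R : Sylow 7 S, R ≠ P → d • R ≠ P := fun R hR e =>
    hR ((smul_left_cancel d) (e.trans hdP.symm))
  have hinj : ∀ R : Sylow 7 S, R ≠ P → ∀ a b : (P : Subgroup S),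
      (a : S) • R = (b : S) • R → a = b := fun R hR a b hab => by
    have := hsemi _ ((b⁻¹ * a : (P : Subgroup S))).2 R hR (by
      rw [Subgroup.coe_mul, Subgroup.coe_inv, mul_smul, hab, inv_smul_smul])
    exact (inv_mul_eq_one.1 (Subtype.ext this : b⁻¹ * a = 1)).symm
  have hcover : ∀ R R' T : Sylow 7 S, R ≠ P → R' ≠ P → T ≠ P →
      (∀ h ∈ (P : Subgroup S), R' ≠ h • R) →
      (∃ h ∈ (P : Subgroup S), T = h • R) ∨ ∃ h ∈ (P : Subgroup S), T = h • R' := by
    intro R R' T hR hR' hT hRR'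
    let f : (P : Subgroup S) ⊕ (P : Subgroup S) → {R : Sylow 7 S // R ≠ P} := fun x => match x with
      | .inl a => ⟨(a : S) • R, hother R hR a a.2⟩
      | .inr a => ⟨(a : S) • R', hother R' hR' a a.2⟩
    have hf : Function.Injective f := by
      rintro (a | a) (b | b) hab <;> have hab' := congrArg Subtype.val hab
      · exact congrArg _ (hinj R hR a b hab')
      · exact absurd (by rw [Subgroup.coe_mul, Subgroup.coe_inv, mul_smul]; exact eq_inv_smul_iff.2 hab'.symm)
          (hRR' _ ((b⁻¹ * a : (P : Subgroup S))).2)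
      · exact absurd (by rw [Subgroup.coe_mul, Subgroup.coe_inv, mul_smul]; exact eq_inv_smul_iff.2 hab')
          (hRR' _ ((a⁻¹ * b : (P : Subgroup S))).2)
      · exact congrArg _ (hinj R' hR' a b hab')
    have hbij : Function.Bijective f := (Nat.bijective_iff_injective_and_card f).2
      ⟨hf, by rw [Nat.card_sum, h7, card_others h15 P]⟩
    obtain ⟨x, hx⟩ := hbij.2 ⟨T, hT⟩
    rcases x with a | a
    · exact Or.inl ⟨a, a.2, (congrArg Subtype.val hx).symm⟩
    · exact Or.inr ⟨a, a.2, (congrArg Subtype.val hx).symm⟩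
  have hdr1 : d ^ r = 1 := hdr ▸ pow_orderOf_eq_one d
  -- `d` is an involution
  have hsq : d * d = 1 := by
    refine hfaith _ fun R => ?_
    by_cases hR : R = P
    · rw [hR, mul_smul, hdP, hdP]
    by_cases hin : ∃ h ∈ (P : Subgroup S), d • R = h • R
    · obtain ⟨h, hh, e⟩ := hin
      have := key1 d hcomm hdr1 R hR h hh e
      rw [mul_smul, this, this]
    · rcases hcover R (d • R) (d • d • R) hR (hmove R hR) (hmove _ (hmove R hR))
        (fun h hh e => hin ⟨h, hh, e⟩) with ⟨h, hh, e⟩ | ⟨h, hh, e⟩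
      · rw [← mul_smul] at e
        refine key1 (d * d) (fun k hk T => ?_) ?_ R hR h hh e
        · rw [mul_smul, mul_smul, hcomm k hk, hcomm k hk]
        · rw [(Commute.refl d).mul_pow, hdr1, one_mul]
      · exact absurd ⟨1, one_mem _, by
          rw [one_smul]; exact (smul_left_cancel d) (key1 d hcomm hdr1 _ (hmove R hR) h hh e)⟩ hin
  -- without fixed points outside `P`
  have hfree : ∀ R : Sylow 7 S, d • R = R → R = P := by
    intro R hfix
    by_contra hR
    apply hd1
    refine hfaith _ fun T => ?_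
    by_cases hT : T = P
    · rw [hT, hdP]
    by_cases hTR : ∃ h ∈ (P : Subgroup S), T = h • R
    · obtain ⟨h, hh, rfl⟩ := hTR
      rw [hcomm h hh, hfix]
    · have hTR' : ∀ h ∈ (P : Subgroup S), T ≠ h • R := fun h hh e => hTR ⟨h, hh, e⟩
      rcases hcover R T (d • T) hR hT (hmove T hT) hTR' with ⟨h, hh, e⟩ | ⟨h, hh, e⟩
      · refine absurd ?_ (hTR' h hh)
        calc T = d • d • T := by rw [← mul_smul, hsq, one_smul]
          _ = h • R := by rw [e, hcomm h hh, hfix]
      · exact key1 d hcomm hdr1 T hT h hh e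
  -- parity
  have := Fintype.ofFinite (Sylow 7 S)
  set σ : Equiv.Perm (Sylow 7 S) := MulAction.toPermHom S (Sylow 7 S) d with hσ
  have hσ2 : σ * σ = 1 := by rw [hσ, ← map_mul, hsq, map_one]
  have hsupp : σ.support.card = 14 := by
    have : σ.support = Finset.univ.erase P := by
      ext R
      rw [Equiv.Perm.mem_support, Finset.mem_erase]
      exact ⟨fun h => ⟨fun e => h (by rw [e]; exact hdP), Finset.mem_univ R⟩,
        fun h e => h.1 (hfree R e)⟩
    rw [this, Finset.card_erase_of_mem (Finset.mem_univ P), Finset.card_univ,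
      ← Nat.card_eq_fintype_card, h15]
  have hσ1 : σ ≠ 1 := fun h => by rw [h, Equiv.Perm.support_one] at hsupp; simp at hsupp
  have hσo : orderOf σ = 2 := orderOf_eq_prime (by rw [pow_two, hσ2]) hσ1
  obtain ⟨n, hn⟩ := Equiv.Perm.cycleType_prime_order (hσo ▸ (by norm_num : Nat.Prime 2))
  rw [hσo] at hn
  have hsum := σ.sum_cycleType
  rw [hn, Multiset.sum_replicate, smul_eq_mul, hsupp] at hsum
  have hsign : Equiv.Perm.sign σ = -1 := by
    rw [Equiv.Perm.sign_of_cycleType, hn, Multiset.sum_replicate, Multiset.card_replicate,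
      smul_eq_mul, show n + 1 = 7 by omega]
    decide
  -- the sign homomorphism is then injective
  set f : S →* ℤˣ := Equiv.Perm.sign.comp (MulAction.toPermHom S (Sylow 7 S)) with hf
  rcases f.normal_ker.eq_bot_or_eq_top with h | h
  · exact hnc fun a b => (f.ker_eq_bot_iff.1 h) (by rw [map_mul, map_mul, mul_comm])
  · have hd' : d ∈ f.ker := h ▸ mem_top d
    rw [MonoidHom.mem_ker] at hd'
    exact absurd (hsign ▸ hd' : (-1 : ℤˣ) = 1) (by decide)

/-- The main statement. -/
theorem false_of_simple (h15 : Nat.card (Sylow 7 S) = 15) : False := by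
  classical
  obtain ⟨P⟩ := (inferInstance : Nonempty (Sylow 7 S))
  have h7 := card_sylow_eq_seven h15 P
  have hcyc : IsCyclic (P : Subgroup S) := isCyclic_of_prime_card h7
  have hPC : (P : Subgroup S) ≤ centralizer ((P : Subgroup S) : Set S) := fun x hx =>
    mem_centralizer_iff.2 fun y hy => congrArg Subtype.val
      (hcyc.commGroup.mul_comm (⟨y, hy⟩ : (P : Subgroup S)) ⟨x, hx⟩)
  set C := centralizer ((P : Subgroup S) : Set S) with hC
  have hCp : IsPGroup 7 C := by
    refine IsPGroup.of_card (Nat.eq_prime_pow_of_unique_prime_dvd (p := 7) Nat.card_pos.ne' ?_)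
    · intro r hr hrd
      have := Fact.mk hr
      obtain ⟨d, hd⟩ := exists_prime_orderOf_dvd_card' r hrd
      exact centralizer_prime_order h15 P h7 d d.2 hr (by rw [Subgroup.orderOf_coe, hd])
  have hCeq : Nat.card C = 7 := by rw [P.is_maximal' hCp hPC, h7]
  have hN : Nat.card (normalizer ((P : Subgroup S) : Set S)) ∣ 42 := by
    have := CfsgLib.SmallGroups.PrimeDegree.card_normalizer_dvd (P : Subgroup S) h7
    rwa [← hC, hCeq] at this
  have h7N : 7 ∣ Nat.card (normalizer ((P : Subgroup S) : Set S)) :=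
    by
    have h := card_dvd_of_le (le_normalizer : (P : Subgroup S) ≤ _)
    rwa [h7] at h
  have hS : Nat.card S = 15 * Nat.card (normalizer ((P : Subgroup S) : Set S)) := by
    rw [← (normalizer ((P : Subgroup S) : Set S)).index_mul_card, ← h15,
      P.card_eq_index_normalizer]
    rfl
  -- the smallest prime gives a normal complement
  have key : ∀ p : ℕ, p.Prime → p ∣ Nat.card S → (Nat.card S).factorization p ≤ 2 →
      (∀ q : ℕ, q.Prime → q ∣ Nat.card S → q ≠ p →
        ∀ d, d ∣ p ^ (Nat.card S).factorization p → d < p ^ (Nat.card S).factorization p →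
          ¬ q ∣ p ^ (Nat.card S).factorization p - d) →
      p ^ (Nat.card S).factorization p < Nat.card S → False := by
    intro p hp hpd hle2 harith hlt
    have := Fact.mk hp
    obtain ⟨Q⟩ := (inferInstance : Nonempty (Sylow p S))
    have hpos := hp.factorization_pos_of_dvd Nat.card_pos.ne' hpd
    have hab : IsMulCommutative (Q : Subgroup S) := by
      rcases (show (Nat.card S).factorization p = 1 ∨ (Nat.card S).factorization p = 2 by omega)
        with h | h
      · have : IsCyclic (Q : Subgroup S) :=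
          isCyclic_of_prime_card (p := p) (by rw [Q.card_eq_multiplicity, h, pow_one])
        exact this.isMulCommutative
      · exact IsPGroup.isMulCommutative_of_card_eq_prime_sq (p := p)
          (by rw [Q.card_eq_multiplicity, h])
    obtain ⟨Q', N, hNn, hNc⟩ := CfsgLib.Fusion.Abelian.npc_of_arith Q hab (by
      rw [Q.card_eq_multiplicity]
      exact harith)
    have hmul := hNc.card_mul
    rw [Q'.card_eq_multiplicity] at hmul
    rcases hNn.eq_bot_or_eq_top with h | h
    · rw [h, Subgroup.card_bot, one_mul] at hmul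
      omega
    · rw [h, Subgroup.card_top] at hmul
      have h1 : 1 < p ^ (Nat.card S).factorization p := Nat.one_lt_pow hpos.ne' hp.one_lt
      have h2 : 0 < Nat.card S := Nat.card_pos
      nlinarith
  have hcases : Nat.card S = 105 ∨ Nat.card S = 210 ∨ Nat.card S = 315 ∨ Nat.card S = 630 := by
    obtain ⟨k, hk⟩ := h7N
    rw [hk] at hN hS
    have hk6 : k ∣ 6 := Nat.dvd_of_mul_dvd_mul_left (show 0 < 7 by norm_num) hN
    have hk6' := Nat.le_of_dvd (by norm_num) hk6
    interval_cases k <;> omega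
  have fac : ∀ (n p e m : ℕ), p.Prime → ¬ p ∣ m → n = p ^ e * m → n.factorization p = e := by
    intro n p e m hp hm hn
    have hm0 : m ≠ 0 := fun h => hm (h ▸ dvd_zero p)
    rw [hn, Nat.factorization_mul (pow_ne_zero _ hp.ne_zero) hm0, Finsupp.add_apply,
      hp.factorization_pow, Finsupp.single_eq_same, Nat.factorization_eq_zero_of_not_dvd hm, add_zero]
  have main : ∀ (p e m : ℕ), p.Prime → ¬ p ∣ m → Nat.card S = p ^ e * m → e ≠ 0 → e ≤ 2 → 1 < m →
      (∀ q ∈ m.divisors, 1 < q → ∀ d ∈ (p ^ e).divisors, d < p ^ e → ¬ q ∣ p ^ e - d) → False := by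
    intro p e m hp hm hn he0 he hm1 hd
    have hf := fac _ p e m hp hm hn
    refine key p hp (hn ▸ (dvd_pow_self p he0).mul_right m) (hf ▸ he) ?_ ?_
    · intro q hq hqS hqp d hdd hdlt
      rw [hf] at hdd hdlt ⊢
      rw [hn] at hqS
      have hqm : q ∣ m := ((hq.dvd_mul).1 hqS).resolve_left fun h =>
        hqp ((Nat.prime_dvd_prime_iff_eq hq hp).1 (hq.dvd_of_dvd_pow h))
      exact hd q (Nat.mem_divisors.2 ⟨hqm, by omega⟩) hq.one_lt d
        (Nat.mem_divisors.2 ⟨hdd, pow_ne_zero _ hp.ne_zero⟩) hdlt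
    · rw [hf, hn]
      exact lt_mul_of_one_lt_right (pow_pos hp.pos e) hm1
  rcases hcases with h | h | h | h
  · exact main 3 1 35 (by norm_num) (by norm_num) (by rw [h]; norm_num) (by omega) (by omega) (by omega) (by decide)
  · exact main 2 1 105 (by norm_num) (by norm_num) (by rw [h]; norm_num) (by omega) (by omega) (by omega) (by decide)
  · exact main 3 2 35 (by norm_num) (by norm_num) (by rw [h]; norm_num) (by omega) (by omega) (by omega) (by decide)
  · exact main 2 1 315 (by norm_num) (by norm_num) (by rw [h]; norm_num) (by omega) (by omega) (by omega) (by decide)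

end CfsgLib.NT.SylowFifteen
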