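import Mathlib

/-!
A square matrix over a field is conjugate to its transpose by a symmetric matrix.
-/

set_option autoImplicit false

namespace CfsgLib.NumberTheory.SymmetricIntertwiner

open Polynomial DirectSum

variable {F : Type*} [Field F]

/-- A representative of a class. -/
noncomputable def rep (g : F[X]) (x : F[X] ⧸ F[X] ∙ g) : F[X] := Quotient.out x

theorem mk_rep (g : F[X]) (x : F[X] ⧸ F[X] ∙ g) : Submodule.Quotient.mk (rep g x) = x :=
  Quotient.out_eq x

/-- The top coefficient of the remainder of a product. -/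
noncomputable def pairing (g : F[X]) (x y : F[X] ⧸ F[X] ∙ g) : F :=
  ((rep g x * rep g y) %ₘ (g * C g.leadingCoeff⁻¹)).coeff ((g * C g.leadingCoeff⁻¹).natDegree - 1)

theorem dvd_of_mk_eq {g f h : F[X]} (e : (Submodule.Quotient.mk f : F[X] ⧸ F[X] ∙ g) = Submodule.Quotient.mk h) :
    g ∣ f - h := by
  obtain ⟨a, ha⟩ := Submodule.mem_span_singleton.mp ((Submodule.Quotient.eq _).mp e)
  exact ⟨a, by rw [← ha, smul_eq_mul, mul_comm]⟩

theorem pairing_mk {g : F[X]} (hg : g ≠ 0) (f h : F[X]) :
    pairing g (Submodule.Quotient.mk f) (Submodule.Quotient.mk h) =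
      ((f * h) %ₘ (g * C g.leadingCoeff⁻¹)).coeff ((g * C g.leadingCoeff⁻¹).natDegree - 1) := by
  have hm := monic_mul_leadingCoeff_inv hg
  unfold pairing
  congr 1
  refine modByMonic_eq_of_dvd_sub hm ?_
  have hu : g * C g.leadingCoeff⁻¹ ∣ g :=
    (IsUnit.mul_right_dvd (isUnit_C.mpr (isUnit_iff_ne_zero.mpr (inv_ne_zero (leadingCoeff_ne_zero.mpr hg))))).mpr dvd_rfl
  refine hu.trans ?_
  have h1 := dvd_of_mk_eq (mk_rep g (Submodule.Quotient.mk f))
  have h2 := dvd_of_mk_eq (mk_rep g (Submodule.Quotient.mk h))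
  rw [show rep g (Submodule.Quotient.mk f) * rep g (Submodule.Quotient.mk h) - f * h =
    (rep g (Submodule.Quotient.mk f) - f) * rep g (Submodule.Quotient.mk h) +
      f * (rep g (Submodule.Quotient.mk h) - h) by ring]
  exact dvd_add (h1.mul_right _) (h2.mul_left _)

theorem pairing_comm (g : F[X]) (x y : F[X] ⧸ F[X] ∙ g) : pairing g x y = pairing g y x := by
  rw [pairing, pairing, mul_comm]

theorem pairing_add {g : F[X]} (hg : g ≠ 0) (x y z : F[X] ⧸ F[X] ∙ g) :
    pairing g (x + y) z = pairing g x z + pairing g y z := by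
  obtain ⟨a, rfl⟩ := Submodule.Quotient.mk_surjective _ x
  obtain ⟨b, rfl⟩ := Submodule.Quotient.mk_surjective _ y
  obtain ⟨c, rfl⟩ := Submodule.Quotient.mk_surjective _ z
  rw [← Submodule.Quotient.mk_add, pairing_mk hg, pairing_mk hg, pairing_mk hg, add_mul, add_modByMonic, coeff_add]

theorem pairing_smul {g : F[X]} (hg : g ≠ 0) (c : F) (x y : F[X] ⧸ F[X] ∙ g) :
    pairing g ((C c) • x) y = c * pairing g x y := by
  obtain ⟨a, rfl⟩ := Submodule.Quotient.mk_surjective _ x
  obtain ⟨b, rfl⟩ := Submodule.Quotient.mk_surjective _ y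
  rw [← Submodule.Quotient.mk_smul, pairing_mk hg, pairing_mk hg, smul_eq_mul, mul_assoc,
    ← smul_eq_C_mul, smul_modByMonic, coeff_smul, smul_eq_mul]

theorem pairing_X {g : F[X]} (hg : g ≠ 0) (x y : F[X] ⧸ F[X] ∙ g) :
    pairing g ((X : F[X]) • x) y = pairing g x ((X : F[X]) • y) := by
  obtain ⟨a, rfl⟩ := Submodule.Quotient.mk_surjective _ x
  obtain ⟨b, rfl⟩ := Submodule.Quotient.mk_surjective _ y
  rw [← Submodule.Quotient.mk_smul, ← Submodule.Quotient.mk_smul, pairing_mk hg, pairing_mk hg,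
    smul_eq_mul, smul_eq_mul, mul_left_comm, mul_assoc]

theorem pairing_nondeg {g : F[X]} (hg : g ≠ 0) {x : F[X] ⧸ F[X] ∙ g} (hx : x ≠ 0) :
    ∃ y, pairing g x y ≠ 0 := by
  obtain ⟨f, rfl⟩ := Submodule.Quotient.mk_surjective _ x
  set q := g * C g.leadingCoeff⁻¹ with hq
  have hm : q.Monic := monic_mul_leadingCoeff_inv hg
  have hr : f %ₘ q ≠ 0 := by
    intro h
    rw [modByMonic_eq_zero_iff_dvd hm] at h
    refine hx ((Submodule.Quotient.mk_eq_zero _).mpr (Submodule.mem_span_singleton.mpr ?_))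
    obtain ⟨b, hb⟩ := h
    exact ⟨C g.leadingCoeff⁻¹ * b, by rw [hb, hq, smul_eq_mul]; ring⟩
  have hlt : (f %ₘ q).natDegree < q.natDegree := by
    refine natDegree_modByMonic_lt f hm fun h1 => hr ?_
    rw [h1, modByMonic_one]
  refine ⟨Submodule.Quotient.mk (X ^ (q.natDegree - 1 - (f %ₘ q).natDegree)), ?_⟩
  rw [pairing_mk hg, ← hq]
  set k := q.natDegree - 1 - (f %ₘ q).natDegree with hk
  have e : (f * X ^ k) %ₘ q = f %ₘ q * X ^ k := by
    have h1 : (f * X ^ k) %ₘ q = (f %ₘ q * X ^ k) %ₘ q := by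
      refine modByMonic_eq_of_dvd_sub hm ⟨f /ₘ q * X ^ k, ?_⟩
      have := modByMonic_add_div f q
      linear_combination (X ^ k) * this.symm
    rw [h1, (modByMonic_eq_self_iff hm).mpr]
    refine degree_lt_degree ?_
    rw [natDegree_mul_X_pow k hr]
    omega
  rw [e, show q.natDegree - 1 = (f %ₘ q).natDegree + k by omega, coeff_mul_X_pow]
  exact leadingCoeff_ne_zero.mpr hr

theorem exists_symm {n : Type*} [Fintype n] [DecidableEq n] (A : Matrix n n F) :
    ∃ S : Matrix n n F, IsUnit S ∧ S.transpose = S ∧ S * A = A.transpose * S := by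
  classical
  let T : Module.End F (n → F) := Matrix.toLin' A
  have hM : Module.IsTorsion F[X] (Module.AEval' T) :=
    Module.AEval.isTorsion_of_finiteDimensional F (n → F) T
  obtain ⟨ι, _, p, hp, d, ⟨e⟩⟩ := Module.equiv_directSum_of_isTorsion hM
  have hg : ∀ i, p i ^ d i ≠ 0 := fun i => pow_ne_zero _ (hp i).ne_zero
  let v : (n → F) → ⨁ i : ι, F[X] ⧸ F[X] ∙ p i ^ d i := fun x => e (Module.AEval'.of T x)
  let B : (n → F) → (n → F) → F := fun x y => ∑ i, pairing (p i ^ d i) (v x i) (v y i)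
  have hBc : ∀ x y, B x y = B y x := fun x y => Finset.sum_congr rfl fun i _ => pairing_comm _ _ _
  have hBadd : ∀ x y z, B (x + y) z = B x z + B y z := fun x y z => by
    simp only [B, v, map_add, DirectSum.add_apply, pairing_add (hg _), Finset.sum_add_distrib]
  have hBsmul : ∀ (c : F) x y, B (c • x) y = c * B x y := fun c x y => by
    have : v (c • x) = (C c) • v x := by
      show e (Module.AEval'.of T (c • x)) = C c • e (Module.AEval'.of T x)
      rw [← map_smul e, map_smul, Module.AEval.C_smul]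
    simp only [B, this, DirectSum.smul_apply, pairing_smul (hg _), Finset.mul_sum]
  have hBT : ∀ x y, B (T x) y = B x (T y) := fun x y => by
    have hX : ∀ z, v (T z) = (X : F[X]) • v z := fun z => by
      show e (Module.AEval'.of T (T z)) = (X : F[X]) • e (Module.AEval'.of T z)
      rw [← map_smul e, Module.AEval'.X_smul_of]
    simp only [B, hX, DirectSum.smul_apply, pairing_X (hg _)]
  let Bl : (n → F) →ₗ[F] (n → F) →ₗ[F] F :=
    LinearMap.mk₂ F B hBadd hBsmul (fun x y z => by rw [hBc, hBadd, hBc y, hBc z])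
      (fun c x y => by rw [hBc, hBsmul, hBc, smul_eq_mul])
  let S := LinearMap.toMatrix₂' F Bl
  have hdot : ∀ x y, x ⬝ᵥ S.mulVec y = B x y := fun x y => by
    have h : Matrix.toLinearMap₂' F S x y = Bl x y := by rw [Matrix.toLinearMap₂'_toMatrix']
    rw [Matrix.toLinearMap₂'_apply'] at h
    exact h
  have hsymm : S.transpose = S := by
    ext i j
    simp only [S, Matrix.transpose_apply, LinearMap.toMatrix₂'_apply]
    exact hBc _ _
  refine ⟨S, ?_, hsymm, ?_⟩
  · rw [← Matrix.mulVec_injective_iff_isUnit, ← Matrix.coe_mulVecLin, ← LinearMap.ker_eq_bot,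
      LinearMap.ker_eq_bot']
    intro y hy
    rw [Matrix.mulVecLin_apply] at hy
    by_contra hy0
    obtain ⟨i, hi⟩ : ∃ i, v y i ≠ 0 := by
      by_contra h
      push Not at h
      refine hy0 ((Module.AEval'.of T).injective (e.injective ?_))
      rw [map_zero, map_zero]
      exact DirectSum.ext fun i => by simpa using h i
    obtain ⟨r, hr⟩ := pairing_nondeg (hg i) hi
    refine hr ?_
    set x := (Module.AEval'.of T).symm (e.symm (DirectSum.lof F[X] ι (fun i => F[X] ⧸ F[X] ∙ p i ^ d i) i r)) with hx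
    have hvx : v x = DirectSum.lof F[X] ι (fun i => F[X] ⧸ F[X] ∙ p i ^ d i) i r := by
      simp only [v, hx, LinearEquiv.apply_symm_apply]
    have h := hdot x y
    rw [hy, dotProduct_zero, hBc] at h
    have hs : B y x = pairing (p i ^ d i) (v y i) r := by
      simp only [B, hvx]
      rw [Finset.sum_eq_single i]
      · rw [DirectSum.lof_apply]
      · intro j _ hj
        rw [DirectSum.lof_eq_of, DirectSum.of_eq_of_ne _ _ _ hj, ← mk_rep _ (v y j), ← Submodule.Quotient.mk_zero,
          pairing_mk (hg j), mul_zero, zero_modByMonic, coeff_zero]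
      · exact fun h => absurd (Finset.mem_univ i) h
    rw [← hs, ← h]
  · refine Matrix.ext fun i j => ?_
    have h := hBT (Pi.single i 1) (Pi.single j 1)
    rw [← hdot, ← hdot] at h
    have e1 : T (Pi.single j 1) = A.mulVec (Pi.single j 1) := Matrix.toLin'_apply A _
    have e2 : T (Pi.single i 1) = A.mulVec (Pi.single i 1) := Matrix.toLin'_apply A _
    rw [e1, e2, Matrix.mulVec_mulVec, dotProduct_comm (A.mulVec _), Matrix.dotProduct_mulVec,
      ← Matrix.mulVec_transpose, dotProduct_comm] at h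
    simp only [Matrix.mulVec_single_one, single_dotProduct, one_mul, Matrix.mulVec_mulVec] at h
    exact h.symm

end CfsgLib.NumberTheory.SymmetricIntertwiner
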